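import Mathlib

/-!
The trace of a Hermitian value of an integral form at a root of unity of prime power order.
-/

set_option autoImplicit false

namespace Cfsg.Agent.H80.RankTwoThree

variable {p : ℕ}

theorem sum_primitiveRoots_pow_prime_pow (hp : p.Prime) {t : ℕ} {ζ : ℂ}
    (hζ : IsPrimitiveRoot ζ (p ^ (t + 1))) (j : ℕ) :
    ∑ η ∈ primitiveRoots (p ^ (t + 1)) ℂ, η ^ j =
      (if p ^ (t + 1) ∣ j then (p : ℂ) ^ (t + 1) else 0) - if p ^ t ∣ j then (p : ℂ) ^ t else 0 := by
  classical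
  have hn : 0 < p ^ (t + 1) := pow_pos hp.pos _
  have hS : primitiveRoots (p ^ (t + 1)) ℂ =
      ((Finset.range (p ^ (t + 1))).filter fun i => ¬ p ∣ i).image (ζ ^ ·) := by
    ext η
    rw [mem_primitiveRoots hn, Finset.mem_image]
    haveI : NeZero (p ^ (t + 1)) := ⟨hn.ne'⟩
    rw [hζ.isPrimitiveRoot_iff]
    constructor
    · rintro ⟨i, hi, hco, rfl⟩
      refine ⟨i, Finset.mem_filter.2 ⟨Finset.mem_range.2 hi, ?_⟩, rfl⟩
      exact hp.coprime_iff_not_dvd.1 (((Nat.coprime_pow_right_iff t.succ_pos i p).1 hco).symm)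
    · rintro ⟨i, hi, rfl⟩
      obtain ⟨hi, hpi⟩ := Finset.mem_filter.1 hi
      exact ⟨i, Finset.mem_range.1 hi,
        (Nat.coprime_pow_right_iff t.succ_pos i p).2 (hp.coprime_iff_not_dvd.2 hpi).symm, rfl⟩
  have hinj : Set.InjOn (ζ ^ ·) ↑((Finset.range (p ^ (t + 1))).filter fun i => ¬ p ∣ i) :=
    fun a ha b hb h => hζ.pow_inj (Finset.mem_range.1 (Finset.mem_filter.1 ha).1)
      (Finset.mem_range.1 (Finset.mem_filter.1 hb).1) h
  have hgeom : ∀ {m : ℕ} {ξ : ℂ}, IsPrimitiveRoot ξ m →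
      ∑ i ∈ Finset.range m, (ξ ^ j) ^ i = if m ∣ j then (m : ℂ) else 0 := by
    intro m ξ hξ
    split_ifs with h
    · rw [(hξ.pow_eq_one_iff_dvd j).2 h]
      simp
    · rw [geom_sum_eq (fun h' => h ((hξ.pow_eq_one_iff_dvd j).1 h')), ← pow_mul, mul_comm j m,
        pow_mul, hξ.pow_eq_one, one_pow]
      simp
  have hdvd : ((Finset.range (p ^ (t + 1))).filter fun i => p ∣ i) =
      (Finset.range (p ^ t)).image (p * ·) := by
    ext i
    simp only [Finset.mem_filter, Finset.mem_range, Finset.mem_image]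
    constructor
    · rintro ⟨hi, k, rfl⟩
      rw [pow_succ'] at hi
      exact ⟨k, (Nat.mul_lt_mul_left hp.pos).1 hi, rfl⟩
    · rintro ⟨k, hk, rfl⟩
      rw [pow_succ']
      exact ⟨(Nat.mul_lt_mul_left hp.pos).2 hk, dvd_mul_right _ _⟩
  have h1 := hgeom hζ
  have h2 : ∑ i ∈ Finset.range (p ^ (t + 1)) with p ∣ i, (ζ ^ j) ^ i =
      if p ^ t ∣ j then ((p ^ t : ℕ) : ℂ) else 0 := by
    rw [hdvd, Finset.sum_image fun a _ b _ h => Nat.eq_of_mul_eq_mul_left hp.pos h,
      Finset.sum_congr rfl fun i _ => show (ζ ^ j) ^ (p * i) = ((ζ ^ p) ^ j) ^ i by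
        rw [← pow_mul, ← pow_mul, ← pow_mul]; ring_nf]
    exact hgeom (hζ.pow hn (by rw [pow_succ']))
  rw [hS, Finset.sum_image hinj, Finset.sum_congr rfl fun i _ => show (ζ ^ i) ^ j = (ζ ^ j) ^ i by
    rw [← pow_mul, mul_comm, pow_mul]]
  rw [← Finset.sum_filter_add_sum_filter_not (Finset.range (p ^ (t + 1))) (fun i => p ∣ i), h2] at h1
  simp only [Nat.cast_pow] at h1
  linear_combination h1

theorem dvd_shift_iff {d n : ℕ} (hdn : d ∣ n) (hn : 1 ≤ n) (a c : ℕ) :
    d ∣ a + (n - 1) * c ↔ a % d = c % d := by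
  obtain ⟨k, rfl⟩ := hdn
  have h2 : a + (d * k - 1) * c + c = a + d * (k * c) := by
    have : (d * k - 1) * c + c = d * k * c := by
      rw [← Nat.succ_mul]
      congr 1
      omega
    rw [← mul_assoc]
    omega
  constructor
  · intro h
    have h1 : (a + (d * k - 1) * c + c) % d = c % d := by
      rw [Nat.add_mod, Nat.mod_eq_zero_of_dvd h]
      simp
    rwa [h2, Nat.add_mul_mod_self_left] at h1
  · intro h
    have h3 : (a + (d * k - 1) * c + c) % d = (0 + c) % d := by
      rw [h2, Nat.add_mul_mod_self_left, h, zero_add]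
    exact Nat.modEq_zero_iff_dvd.1 (Nat.ModEq.add_right_cancel' c h3)

theorem card_residue_class {P : ℕ} (hP : 0 < P) (p a : ℕ) :
    ((Finset.range (P * p)).filter fun i => i % P = a % P).card = p := by
  refine (Finset.card_bij (fun i (_ : i ∈ Finset.range p) => a % P + P * i) (fun i hi => ?_)
    (fun i _ k _ h => ?_) (fun i hi => ?_)).symm.trans (Finset.card_range p)
  · rw [Finset.mem_range] at hi
    refine Finset.mem_filter.2 ⟨Finset.mem_range.2 ?_, ?_⟩
    · calc a % P + P * i < P + P * i := Nat.add_lt_add_right (Nat.mod_lt _ hP) _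
        _ = P * (i + 1) := by ring
        _ ≤ P * p := Nat.mul_le_mul_left _ hi
    · rw [Nat.add_mul_mod_self_left, Nat.mod_mod]
  · exact Nat.eq_of_mul_eq_mul_left hP (Nat.add_left_cancel h)
  · obtain ⟨hi, hm⟩ := Finset.mem_filter.1 hi
    refine ⟨i / P, Finset.mem_range.2 ((Nat.div_lt_iff_lt_mul hP).2 ?_), ?_⟩
    · rw [mul_comm]; exact Finset.mem_range.1 hi
    · rw [← hm, Nat.mod_add_div]

/-- An integral form with values zero or at least `l` gives Hermitian values whose trace is at least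
the degree times `l`. -/
theorem average_ge (hp : p.Prime) {t : ℕ} {ζ : ℂ} (hζ : IsPrimitiveRoot ζ (p ^ (t + 1)))
    {ι : Type*} (s : Finset ι) (N : ι → ι → ℤ) (m : ι → ℤ) (e : ι → ℕ) {l : ℤ} (hl : 0 ≤ l)
    (hgap : ∀ x : ι → ℤ, (∀ i ∈ s, ∑ j ∈ s, x j * N i j = 0) ∨
      l ≤ ∑ i ∈ s, ∑ j ∈ s, x i * x j * N i j)
    (hne : ∑ i ∈ s, ∑ j ∈ s, ((m i * m j * N i j : ℤ) : ℂ) *
      ζ ^ (e i + (p ^ (t + 1) - 1) * e j) ≠ 0) :
    ∃ I : ℤ, ∑ η ∈ primitiveRoots (p ^ (t + 1)) ℂ, ∑ i ∈ s, ∑ j ∈ s,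
        ((m i * m j * N i j : ℤ) : ℂ) * η ^ (e i + (p ^ (t + 1) - 1) * e j) = (I : ℂ) ∧
      (p : ℤ) ^ t * ((p : ℤ) - 1) * l ≤ I := by
  classical
  set n := p ^ (t + 1) with hn
  set P := p ^ t with hP
  have hn1 : 1 ≤ n := Nat.one_le_pow _ _ hp.pos
  have hP0 : 0 < P := pow_pos hp.pos t
  have hnP : n = P * p := pow_succ p t
  have hPn : P ∣ n := ⟨p, hnP⟩
  set C : ℕ → Finset ℕ := fun a => (Finset.range n).filter fun a' => a' % P = a % P with hC
  have hcard : ∀ a, (C a).card = p := fun a => by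
    simp only [hC, hnP]
    exact card_residue_class hP0 p a
  set x : ℕ → ι → ℤ := fun a i => if e i % n = a then m i else 0 with hx
  set v : ℕ → ι → ℤ := fun a i => ∑ j ∈ s, x a j * N i j with hv
  set q : ℕ → ℕ → ℤ := fun a a' =>
    ∑ i ∈ s, ∑ j ∈ s, (x a i - x a' i) * (x a j - x a' j) * N i j with hq
  set J : ℤ := ∑ i ∈ s, ∑ j ∈ s, m i * m j * N i j *
    ((if e i % n = e j % n then (p : ℤ) else 0) - if e i % P = e j % P then 1 else 0) with hJ
  refine ⟨(p : ℤ) ^ t * J, ?_, ?_⟩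
  · rw [hJ]
    simp only [Int.cast_mul, Int.cast_pow, Int.cast_natCast, Int.cast_sum, Finset.mul_sum]
    rw [Finset.sum_comm]
    refine Finset.sum_congr rfl fun i _ => ?_
    rw [Finset.sum_comm]
    refine Finset.sum_congr rfl fun j _ => ?_
    rw [← Finset.mul_sum, sum_primitiveRoots_pow_prime_pow hp hζ]
    simp only [← hn, ← hP, dvd_shift_iff (dvd_refl n) hn1, dvd_shift_iff hPn hn1]
    split_ifs <;> push_cast <;> ring
  rw [mul_assoc]
  refine mul_le_mul_of_nonneg_left ?_ (pow_nonneg (Int.natCast_nonneg p) t)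
  have hmodn : ∀ i, e i % n ∈ Finset.range n := fun i =>
    Finset.mem_range.2 (Nat.mod_lt _ hn1)
  have hmodP : ∀ i, e i % n % P = e i % P := fun i => Nat.mod_mod_of_dvd _ hPn
  -- as a sum of squares of differences
  have h2J : ∑ a ∈ Finset.range n, ∑ a' ∈ C a, q a a' = 2 * J := by
    have hloc : ∀ i j, ∑ a ∈ Finset.range n, ∑ a' ∈ C a, (x a i - x a' i) * (x a j - x a' j) =
        2 * (m i * m j * ((if e i % n = e j % n then (p : ℤ) else 0) -
          if e i % P = e j % P then 1 else 0)) := by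
      intro i j
      have hflip : ∀ f : ℕ → ℕ → ℤ, ∑ a ∈ Finset.range n, ∑ a' ∈ C a, f a a' =
          ∑ a ∈ Finset.range n, ∑ a' ∈ C a, f a' a := fun f => by
        simp only [hC, Finset.sum_filter]
        rw [Finset.sum_comm]
        refine Finset.sum_congr rfl fun a _ => Finset.sum_congr rfl fun a' _ => ?_
        exact if_congr eq_comm rfl rfl
      have hdiag : ∑ a ∈ Finset.range n, x a i * x a j =
          if e i % n = e j % n then m i * m j else 0 := by
        rw [Finset.sum_eq_single (e i % n)]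
        · simp only [hx, if_true]
          by_cases h : e i % n = e j % n
          · rw [if_pos h, if_pos h.symm]
          · rw [if_neg h, if_neg (Ne.symm h), mul_zero]
        · intro a _ ha
          simp [hx, Ne.symm ha]
        · exact fun h => absurd (hmodn i) h
      have hcross : ∀ i j, ∑ a ∈ Finset.range n, ∑ a' ∈ C a, x a i * x a' j =
          if e i % P = e j % P then m i * m j else 0 := by
        intro i j
        rw [Finset.sum_eq_single (e i % n)]
        · simp only [hx, if_true, ← Finset.mul_sum, Finset.sum_ite_eq]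
          by_cases h : e i % P = e j % P
          · rw [if_pos h, if_pos (Finset.mem_filter.2 ⟨hmodn j, by rw [hmodP, hmodP, h]⟩)]
          · rw [if_neg h, if_neg fun h' => h ?_, mul_zero]
            have := (Finset.mem_filter.1 h').2
            rw [hmodP, hmodP] at this
            exact this.symm
        · intro a _ ha
          exact Finset.sum_eq_zero fun a' _ => by simp [hx, Ne.symm ha]
        · exact fun h => absurd (hmodn i) h
      have e1 : ∀ a a', (x a i - x a' i) * (x a j - x a' j) =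
          x a i * x a j + x a' i * x a' j - (x a i * x a' j + x a' i * x a j) := fun a a' => by ring
      simp only [e1, Finset.sum_sub_distrib, Finset.sum_add_distrib]
      rw [← hflip fun a _ => x a i * x a j, ← hflip fun a a' => x a i * x a' j]
      simp only [Finset.sum_const, hcard, nsmul_eq_mul, hcross]
      simp only [← Finset.mul_sum, hdiag]
      split_ifs <;> ring
    simp only [hq]
    rw [Finset.sum_congr rfl fun a _ => Finset.sum_comm, Finset.sum_comm, hJ, Finset.mul_sum]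
    refine Finset.sum_congr rfl fun i _ => ?_
    rw [Finset.sum_congr rfl fun a _ => Finset.sum_comm, Finset.sum_comm, Finset.mul_sum]
    refine Finset.sum_congr rfl fun j _ => ?_
    simp only [← Finset.sum_mul, hloc]
    ring
  have hcase : ∀ a a', (∀ i ∈ s, v a i = v a' i) ∧ q a a' = 0 ∨ l ≤ q a a' := by
    intro a a'
    rcases hgap (fun i => x a i - x a' i) with h | h
    · refine Or.inl ⟨fun i hi => ?_, ?_⟩
      · have h1 := h i hi
        simp only [sub_mul, Finset.sum_sub_distrib, sub_eq_zero] at h1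
        exact h1
      · refine Finset.sum_eq_zero fun i hi => ?_
        calc ∑ j ∈ s, (x a i - x a' i) * (x a j - x a' j) * N i j
            = (x a i - x a' i) * ∑ j ∈ s, (x a j - x a' j) * N i j := by
              simp only [Finset.mul_sum, mul_assoc]
          _ = 0 := by rw [h i hi, mul_zero]
    · exact Or.inr h
  have hqnn : ∀ a a', 0 ≤ q a a' := fun a a' => by
    rcases hcase a a' with ⟨-, h⟩ | h <;> linarith
  -- some difference within a residue class is not zero
  obtain ⟨a₀, ha₀, a₁, ha₁, i₁, hi₁, hne₁⟩ : ∃ a₀ ∈ Finset.range n, ∃ a₁ ∈ C a₀,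
      ∃ i ∈ s, v a₁ i ≠ v a₀ i := by
    by_contra hcon
    push Not at hcon
    apply hne
    refine Finset.sum_eq_zero fun i hi => ?_
    set η := ζ ^ (n - 1) with hη
    have hηn : η ^ n = 1 := by rw [hη, ← pow_mul, mul_comm, pow_mul, hζ.pow_eq_one, one_pow]
    have hηP : η ^ P ≠ 1 := fun h => by
      rw [hη, ← pow_mul] at h
      have h1 := (hζ.pow_eq_one_iff_dvd _).1 h
      have h2 : n ∣ P := ((Nat.coprime_self_sub_right hn1).2 (Nat.coprime_one_right n)).dvd_of_dvd_mul_left h1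
      have h3 := Nat.le_of_dvd hP0 h2
      rw [hnP] at h3
      exact absurd h3 (not_le.2 (lt_mul_of_one_lt_right hP0 hp.one_lt))
    set S : ℂ := ∑ a ∈ Finset.range n, η ^ a * (v a i : ℂ) with hS
    have hshift : η ^ P * S = S := by
      rw [hS, Finset.mul_sum]
      refine Finset.sum_bij (fun a _ => (a + P) % n) (fun a _ => Finset.mem_range.2 (Nat.mod_lt _ hn1))
        (fun a ha b hb h => ?_) (fun b hb => ?_) (fun a ha => ?_)
      · rw [Finset.mem_range] at ha hb
        have h' : a ≡ b [MOD n] := Nat.ModEq.add_right_cancel' P h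
        exact Nat.ModEq.eq_of_lt_of_lt h' ha hb
      · rw [Finset.mem_range] at hb
        refine ⟨(b + (n - P)) % n, Finset.mem_range.2 (Nat.mod_lt _ hn1), ?_⟩
        have hPle : P ≤ n := Nat.le_of_dvd hn1 hPn
        rw [Nat.mod_add_mod, show b + (n - P) + P = b + n by omega, Nat.add_mod_right,
          Nat.mod_eq_of_lt hb]
      · rw [← pow_eq_pow_mod _ hηn, pow_add, hcon a ha ((a + P) % n)
          (Finset.mem_filter.2 ⟨Finset.mem_range.2 (Nat.mod_lt _ hn1),
            by rw [Nat.mod_mod_of_dvd _ hPn, Nat.add_mod_right]⟩) i hi]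
        ring
    have hS0 : S = 0 := by
      by_contra h
      exact hηP ((mul_eq_right₀ h).1 hshift)
    calc ∑ j ∈ s, ((m i * m j * N i j : ℤ) : ℂ) * ζ ^ (e i + (n - 1) * e j)
        = (m i : ℂ) * ζ ^ e i * S := by
          simp only [hS, hv, Int.cast_sum, Int.cast_mul, Finset.mul_sum]
          rw [Finset.sum_comm]
          refine Finset.sum_congr rfl fun j _ => ?_
          rw [Finset.sum_eq_single (e j % n)]
          · simp only [hx, if_true]
            rw [← pow_eq_pow_mod _ hηn, pow_add, pow_mul, ← hη]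
            ring
          · intro a _ ha
            simp [hx, Ne.symm ha]
          · intro h
            exact absurd (hmodn j) h
      _ = 0 := by rw [hS0, mul_zero]
  set T := C a₀ with hT
  have ha₀T : a₀ ∈ T := Finset.mem_filter.2 ⟨ha₀, rfl⟩
  have hclass : ∀ a ∈ T, C a = T := fun a ha => by
    simp only [hT, hC, (Finset.mem_filter.1 ha).2]
  have ha10 : a₁ ≠ a₀ := fun h => hne₁ (by rw [h])
  have hpair : ∀ c, l ≤ q a₀ c + q a₁ c := by
    intro c
    rcases hcase a₀ c with ⟨h, -⟩ | h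
    · rcases hcase a₁ c with ⟨h', -⟩ | h'
      · exact absurd ((h' i₁ hi₁).trans (h i₁ hi₁).symm) hne₁
      · have := hqnn a₀ c; linarith
    · have := hqnn a₁ c; linarith
  have hsymq : ∀ a a', q a a' = q a' a := fun a a' =>
    Finset.sum_congr rfl fun i _ => Finset.sum_congr rfl fun j _ => by ring
  have h01 : l ≤ q a₀ a₁ := by
    rcases hcase a₀ a₁ with ⟨h, -⟩ | h
    · exact absurd (h i₁ hi₁).symm hne₁
    · exact h
  set U := (T.erase a₀).erase a₁ with hU
  have ha₁' : a₁ ∈ T.erase a₀ := Finset.mem_erase.2 ⟨ha10, ha₁⟩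
  have hsplit : ∀ f : ℕ → ℤ, ∑ a ∈ T, f a = f a₀ + (f a₁ + ∑ a ∈ U, f a) := fun f => by
    rw [← Finset.add_sum_erase _ _ ha₀T, ← Finset.add_sum_erase _ _ ha₁']
  have hUcard : (U.card : ℤ) = (p : ℤ) - 2 := by
    have := hp.two_le
    rw [hU, Finset.card_erase_of_mem ha₁', Finset.card_erase_of_mem ha₀T, hT, hcard]
    omega
  have hUsum : (U.card : ℤ) * l ≤ ∑ c ∈ U, (q a₀ c + q a₁ c) := by
    have h := Finset.sum_le_sum (s := U) fun c _ => hpair c
    simpa [nsmul_eq_mul] using h
  have htot : 2 * (((p : ℤ) - 1) * l) ≤ ∑ a ∈ T, ∑ a' ∈ T, q a a' := by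
    simp only [hsplit, Finset.sum_add_distrib]
    have e1 : ∑ a ∈ U, q a a₀ = ∑ a ∈ U, q a₀ a := Finset.sum_congr rfl fun a _ => hsymq a a₀
    have e2 : ∑ a ∈ U, q a a₁ = ∑ a ∈ U, q a₁ a := Finset.sum_congr rfl fun a _ => hsymq a a₁
    have e3 : 0 ≤ ∑ a ∈ U, ∑ a' ∈ U, q a a' :=
      Finset.sum_nonneg fun a _ => Finset.sum_nonneg fun a' _ => hqnn a a'
    have e4 := hsymq a₁ a₀
    have e5 := hqnn a₀ a₀
    have e6 := hqnn a₁ a₁
    rw [Finset.sum_add_distrib] at hUsum
    rw [hUcard] at hUsum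
    rw [e1, e2]
    linarith
  have hle : ∑ a ∈ T, ∑ a' ∈ T, q a a' ≤ ∑ a ∈ Finset.range n, ∑ a' ∈ C a, q a a' := by
    rw [Finset.sum_congr rfl fun a ha => by rw [← hclass a ha]]
    exact Finset.sum_le_sum_of_subset_of_nonneg (Finset.filter_subset _ _)
      fun a _ _ => Finset.sum_nonneg fun a' _ => hqnn a a'
  rw [h2J] at hle
  linarith

end Cfsg.Agent.H80.RankTwoThree
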