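import Cfsg.Agent.H80.RankTwoThree.Form
import Cfsg.Agent.H82.CycShape
import Cfsg.Agent.H83.HeightPairs
import Cfsg.Agent.S4733

/-!
For a cyclic defect group every value of the quadratic form is zero or at least the rank.
-/

set_option autoImplicit false
set_option linter.style.haveILetI false

open scoped ComplexConjugate

namespace Cfsg.Agent.H80.RankTwoThree

open BlockBasic CharBasic

universe u

variable {G : Type u} [Group G] [Fintype G] {p : ℕ} [hp : Fact p.Prime] {M : Ideal Cfsg.AlgInt}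
  {B : Set (Cfsg.IrrCharacter G)}

open scoped Classical in
/-- Defect zero. -/
theorem qform_ge_defect_zero (hM : Cfsg.IsPModular p M) (hB : Cfsg.IsPBlock M B)
    (hd : Cfsg.blockDefect p B = 0) (x : Cfsg.IrrCharacter G → ℤ) :
    qform p B x = 0 ∨ (Cfsg.blockRank p B : ℤ) ≤ qform p B x := by
  obtain ⟨hk, hl⟩ := (S4733.result p M hM B hB).2.1.1 hd
  obtain ⟨ψ, hψ⟩ := isPBlock_nonempty hM hB
  have hsing : Finset.univ.filter (fun φ : Cfsg.IrrCharacter G => φ ∈ B) = {ψ} := by
    refine (Finset.eq_of_subset_of_card_le (Finset.singleton_subset_iff.2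
      (Finset.mem_filter.2 ⟨Finset.mem_univ _, hψ⟩)) ?_).symm
    rw [Finset.card_singleton, ← Fintype.card_subtype, ← Nat.card_eq_fintype_card]
    exact hk.le
  have hpos := H83.entry_self_pos hM hB hψ
  rw [hl, qform, hsing, Finset.sum_singleton, Finset.sum_singleton]
  by_cases hx : x ψ = 0
  · exact Or.inl (by rw [hx, zero_mul, zero_mul])
  · right
    have h1 : 0 < x ψ * x ψ := mul_self_pos.2 hx
    have h2 := mul_pos h1 hpos
    push_cast
    omega

open scoped Classical in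
/-- The matrix of a block with signed regular relations of the cyclic shape. -/
theorem entry_of_shape (hM : Cfsg.IsPModular p M) (hB : Cfsg.IsPBlock M B)
    {XF YF : Finset (Cfsg.IrrCharacter G)} {e n : ℕ}
    (hsplit : Finset.univ.filter (fun φ : Cfsg.IrrCharacter G => φ ∈ B) = XF ∪ YF)
    (hdisj : Disjoint XF YF) (hX : XF.card = e) (hY : YF.card = n)
    (hq : n * e + 1 = p ^ Cfsg.blockDefect p B) (hl : Cfsg.blockRank p B = e)
    {sg : Cfsg.IrrCharacter G → ℤ} {δ : ℤ} (hsg : ∀ χ ∈ XF, sg χ = 1 ∨ sg χ = -1)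
    (hδ : δ = 1 ∨ δ = -1)
    (hrel : ∀ y ∈ YF, ∀ g : G, ¬ p ∣ orderOf g →
      (δ : ℂ) * (y : G → ℂ) g + ∑ χ ∈ XF, (sg χ : ℂ) * (χ : G → ℂ) g = 0)
    {α β : Cfsg.IrrCharacter G} (hα : α ∈ XF) (hβ : β ∈ XF) :
    H83.entry p B α β =
      (if α = β then (p : ℤ) ^ Cfsg.blockDefect p B else 0) - (n : ℤ) * sg α * sg β := by
  set q : ℤ := (p : ℤ) ^ Cfsg.blockDefect p B with hqdef
  have hqe : q = (n : ℤ) * e + 1 := by rw [hqdef]; exact_mod_cast hq.symm
  set bf := Finset.univ.filter (fun φ : Cfsg.IrrCharacter G => φ ∈ B) with hbf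
  have hXB : ∀ {φ}, φ ∈ XF → φ ∈ B := fun {φ} h =>
    (Finset.mem_filter.1 (show φ ∈ bf by rw [hsplit]; exact Finset.mem_union_left _ h)).2
  have hYB : ∀ {φ}, φ ∈ YF → φ ∈ B := fun {φ} h =>
    (Finset.mem_filter.1 (show φ ∈ bf by rw [hsplit]; exact Finset.mem_union_right _ h)).2
  have hδ2 : δ * δ = 1 := by rcases hδ with h | h <;> simp [h]
  have hsg2 : ∀ χ ∈ XF, sg χ * sg χ = 1 := fun χ hχ => by
    rcases hsg χ hχ with h | h <;> simp [h]
  set N : Cfsg.IrrCharacter G → Cfsg.IrrCharacter G → ℤ := H83.entry p B with hN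
  -- a row at a member of the second part
  have hrow : ∀ φ ∈ B, ∀ y ∈ YF, N φ y = -δ * ∑ χ ∈ XF, sg χ * N φ χ := by
    intro φ hφ y hy
    have h0 : δ * N φ y + ∑ χ ∈ XF, sg χ * N φ χ = 0 := by
      apply Int.cast_injective (α := ℂ)
      apply mul_left_cancel₀ (Nat.cast_ne_zero.2 (Nat.card_pos (α := G)).ne' : (Nat.card G : ℂ) ≠ 0)
      rw [Int.cast_zero, mul_zero]
      push_cast
      have he : ∀ χ : Cfsg.IrrCharacter G, (Nat.card G : ℂ) * (N φ χ : ℂ) =
          ∑ s : G, (p : ℂ) ^ Cfsg.blockDefect p B *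
            (if p ∣ orderOf s then 0 else (φ : G → ℂ) s * conj ((χ : G → ℂ) s)) := fun χ => by
        rw [hN, H83.entry_spec hM hB hφ, mul_left_comm, H83.regInner_eq_sum, Finset.mul_sum]
      rw [mul_add, Finset.mul_sum]
      simp only [mul_left_comm (Nat.card G : ℂ), he, Finset.mul_sum]
      rw [Finset.sum_comm (s := XF), ← Finset.sum_add_distrib]
      refine Finset.sum_eq_zero fun s _ => ?_
      by_cases hs : p ∣ orderOf s
      · simp [hs]
      · have h := congrArg conj (hrel y hy s hs)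
        simp only [map_add, map_mul, map_sum, map_intCast, map_zero] at h
        simp only [if_neg hs]
        have h' := congrArg (fun w : ℂ => (p : ℂ) ^ Cfsg.blockDefect p B * (φ : G → ℂ) s * w) h
        simp only [mul_add, Finset.mul_sum, mul_zero] at h'
        refine Eq.trans ?_ h'
        congr 1
        · ring
        · exact Finset.sum_congr rfl fun χ _ => by ring
    linear_combination δ * h0 - (N φ y) * hδ2
  -- the expected matrix
  set R : Cfsg.IrrCharacter G → Cfsg.IrrCharacter G → ℤ := fun φ φ' =>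
    if φ ∈ XF then (if φ' ∈ XF then (if φ = φ' then q else 0) - (n : ℤ) * sg φ * sg φ'
      else -δ * sg φ)
    else (if φ' ∈ XF then -δ * sg φ' else (e : ℤ)) with hR
  have hYX : ∀ {φ}, φ ∈ YF → φ ∉ XF := fun h h' => Finset.disjoint_left.1 hdisj h' h
  have hsum : ∀ f : Cfsg.IrrCharacter G → ℤ,
      ∑ φ ∈ bf, f φ = ∑ χ ∈ XF, f χ + ∑ y ∈ YF, f y := fun f => by
    rw [hsplit, Finset.sum_union hdisj]
  have hNR : ∀ φ ∈ bf, ∑ φ' ∈ bf, N φ φ' * R φ φ' = q * N φ φ := by
    intro φ hφ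
    have hφB : φ ∈ B := (Finset.mem_filter.1 hφ).2
    rw [hsum]
    rcases Finset.mem_union.1 (hsplit ▸ hφ) with h | h
    · rw [Finset.sum_congr (s₁ := XF) rfl (g := fun χ => (if φ = χ then q * N φ χ else 0) -
          (n : ℤ) * sg φ * (sg χ * N φ χ)) fun χ hχ => by
          simp only [hR, if_pos h, if_pos hχ]
          split_ifs <;> ring,
        Finset.sum_congr (s₁ := YF) rfl (g := fun _ => sg φ * ∑ χ ∈ XF, sg χ * N φ χ) fun y hy => by
          simp only [hR, if_pos h, if_neg (hYX hy)]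
          rw [hrow φ hφB y hy]
          linear_combination (sg φ * ∑ χ ∈ XF, sg χ * N φ χ) * hδ2,
        Finset.sum_sub_distrib, Finset.sum_ite_eq, if_pos h, ← Finset.mul_sum, Finset.sum_const,
        hY, nsmul_eq_mul]
      ring
    · rw [Finset.sum_congr (s₁ := XF) rfl (g := fun χ => -δ * (sg χ * N φ χ)) fun χ hχ => by
          simp only [hR, if_neg (hYX h), if_pos hχ]; ring,
        Finset.sum_congr (s₁ := YF) rfl (g := fun _ => (e : ℤ) * N φ φ) fun y hy => by
          simp only [hR, if_neg (hYX h), if_neg (hYX hy)]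
          rw [hrow φ hφB y hy, hrow φ hφB φ h]; ring,
        ← Finset.mul_sum, Finset.sum_const, hY, nsmul_eq_mul, hrow φ hφB φ h]
      linear_combination (δ * ∑ χ ∈ XF, sg χ * N φ χ) * hqe
  have htr : ∑ φ ∈ bf, N φ φ = q * e := by
    rw [hN, sum_entry_self hM hB, hl]
  have hNN : ∑ φ ∈ bf, ∑ φ' ∈ bf, N φ φ' * N φ φ' = q * (q * e) := by
    rw [← htr, Finset.mul_sum]
    refine Finset.sum_congr rfl fun φ hφ => ?_
    have hφB : φ ∈ B := (Finset.mem_filter.1 hφ).2
    refine Eq.trans ?_ (H83.sum_entry_sq hM hB hφB)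
    refine Eq.trans (Finset.sum_congr rfl fun φ' _ => (sq _).symm)
      (Finset.sum_subset (Finset.filter_subset _ _) fun φ' _ h => ?_)
    rw [hN, H83.entry_eq_zero hM hB hφB fun h' => h (Finset.mem_filter.2 ⟨Finset.mem_univ _, h'⟩)]
    exact zero_pow two_ne_zero
  have hRR : ∑ φ ∈ bf, ∑ φ' ∈ bf, R φ φ' * R φ φ' = q * (q * e) := by
    have h1 : ∀ φ ∈ bf, ∑ φ' ∈ bf, R φ φ' * R φ φ' =
        if φ ∈ XF then q * q - 2 * q * n + (n : ℤ) * n * e + n else (e : ℤ) + n * (e * e) := by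
      intro φ hφ
      rw [hsum]
      rcases Finset.mem_union.1 (hsplit ▸ hφ) with h | h
      · rw [if_pos h, Finset.sum_congr (s₁ := XF) rfl (g := fun χ => (if φ = χ then q * q - 2 * q * n else 0) +
            (n : ℤ) * n) fun χ hχ => by
            simp only [hR, if_pos h, if_pos hχ]
            have a1 := hsg2 φ h
            have a2 := hsg2 χ hχ
            split_ifs with he
            · subst he
              linear_combination ((n : ℤ) * n * (sg φ * sg φ + 1) - 2 * q * n) * a1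
            · linear_combination ((n : ℤ) * n * (sg χ * sg χ)) * a1 + ((n : ℤ) * n) * a2,
          Finset.sum_congr (s₁ := YF) rfl (g := fun _ => (1 : ℤ)) fun y hy => by
            simp only [hR, if_pos h, if_neg (hYX hy)]
            linear_combination (sg φ * sg φ) * hδ2 + hsg2 φ h,
          Finset.sum_add_distrib, Finset.sum_ite_eq, if_pos h, Finset.sum_const, Finset.sum_const,
          hX, hY, nsmul_eq_mul, nsmul_eq_mul]
        ring
      · rw [if_neg (hYX h), Finset.sum_congr (s₁ := XF) rfl (g := fun _ => (1 : ℤ)) fun χ hχ => by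
            simp only [hR, if_neg (hYX h), if_pos hχ]
            linear_combination (sg χ * sg χ) * hδ2 + hsg2 χ hχ,
          Finset.sum_congr (s₁ := YF) rfl (g := fun _ => (e : ℤ) * e) fun y hy => by
            simp only [hR, if_neg (hYX h), if_neg (hYX hy)],
          Finset.sum_const, Finset.sum_const, hX, hY, nsmul_eq_mul, nsmul_eq_mul]
        ring
    rw [Finset.sum_congr rfl h1, hsum, Finset.sum_congr rfl fun χ hχ => if_pos hχ,
      Finset.sum_congr rfl fun y hy => if_neg (hYX hy), Finset.sum_const, Finset.sum_const, hX, hY,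
      nsmul_eq_mul, nsmul_eq_mul]
    rw [hqe]
    ring
  have hzero : ∑ φ ∈ bf, ∑ φ' ∈ bf, (N φ φ' - R φ φ') ^ 2 = 0 := by
    have : ∀ φ φ', (N φ φ' - R φ φ') ^ 2 =
        N φ φ' * N φ φ' - 2 * (N φ φ' * R φ φ') + R φ φ' * R φ φ' := fun φ φ' => by ring
    simp only [this, Finset.sum_add_distrib, Finset.sum_sub_distrib, ← Finset.mul_sum]
    rw [hNN, hRR, Finset.sum_congr rfl hNR, ← Finset.mul_sum, htr]
    ring
  have hmem : ∀ {φ}, φ ∈ XF → φ ∈ bf := fun h => by rw [hsplit]; exact Finset.mem_union_left _ h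
  have h1 := (Finset.sum_eq_zero_iff_of_nonneg fun φ _ => Finset.sum_nonneg fun φ' _ =>
    sq_nonneg (N φ φ' - R φ φ')).1 hzero α (hmem hα)
  have h2 := (Finset.sum_eq_zero_iff_of_nonneg fun φ' _ => sq_nonneg (N α φ' - R α φ')).1 h1 β
    (hmem hβ)
  rw [sq_eq_zero_iff, sub_eq_zero] at h2
  refine h2.trans ?_
  simp only [hR, if_pos hα, if_pos hβ]

open scoped Classical in
/-- Signed regular relations of the cyclic shape bound the values of the form. -/
theorem qform_ge_of_shape (hM : Cfsg.IsPModular p M) (hB : Cfsg.IsPBlock M B)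
    {XF YF : Finset (Cfsg.IrrCharacter G)} {e n : ℕ}
    (hsplit : Finset.univ.filter (fun φ : Cfsg.IrrCharacter G => φ ∈ B) = XF ∪ YF)
    (hdisj : Disjoint XF YF) (hX : XF.card = e) (hY : YF.card = n)
    (hq : n * e + 1 = p ^ Cfsg.blockDefect p B) (hn : 1 ≤ n) (hl : Cfsg.blockRank p B = e)
    {sg : Cfsg.IrrCharacter G → ℤ} {δ : ℤ} (hsg : ∀ χ ∈ XF, sg χ = 1 ∨ sg χ = -1)
    (hδ : δ = 1 ∨ δ = -1)
    (hrel : ∀ y ∈ YF, ∀ g : G, ¬ p ∣ orderOf g →
      (δ : ℂ) * (y : G → ℂ) g + ∑ χ ∈ XF, (sg χ : ℂ) * (χ : G → ℂ) g = 0)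
    (x : Cfsg.IrrCharacter G → ℤ) :
    qform p B x = 0 ∨ (Cfsg.blockRank p B : ℤ) ≤ qform p B x := by
  set q : ℤ := (p : ℤ) ^ Cfsg.blockDefect p B with hqdef
  have hqe : q = (n : ℤ) * e + 1 := by rw [hqdef]; exact_mod_cast hq.symm
  set bf := Finset.univ.filter (fun φ : Cfsg.IrrCharacter G => φ ∈ B) with hbf
  have hYX : ∀ {φ}, φ ∈ YF → φ ∉ XF := fun h h' => Finset.disjoint_left.1 hdisj h' h
  set c : Cfsg.IrrCharacter G → ℤ := fun φ =>
    if φ ∈ XF then x φ - δ * sg φ * ∑ y ∈ YF, x y else 0 with hc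
  have hcomb : ∀ g : G, ¬ p ∣ orderOf g → comb B x g = comb B c g := by
    intro g hg
    have hδ2 : (δ : ℂ) * δ = 1 := by rcases hδ with h | h <;> simp [h]
    simp only [comb, ← hbf, hsplit, Finset.sum_union hdisj]
    rw [Finset.sum_eq_zero (s := YF) (f := fun y => (c y : ℂ) * (y : G → ℂ) g) fun y hy => by
      simp only [hc, if_neg (hYX hy), Int.cast_zero, zero_mul], add_zero,
      Finset.sum_congr (s₁ := YF) rfl (g := fun y => (x y : ℂ) *
        (-(δ : ℂ) * ∑ χ ∈ XF, (sg χ : ℂ) * (χ : G → ℂ) g)) fun y hy => by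
        congr 1
        linear_combination (δ : ℂ) * hrel y hy g hg - ((y : G → ℂ) g) * hδ2,
      Finset.sum_congr (s₁ := XF) rfl (f := fun χ => (c χ : ℂ) * (χ : G → ℂ) g)
        (g := fun χ => (x χ : ℂ) * (χ : G → ℂ) g -
          (∑ y ∈ YF, (x y : ℂ)) * ((δ : ℂ) * ((sg χ : ℂ) * (χ : G → ℂ) g))) fun χ hχ => by
        simp only [hc, if_pos hχ]
        push_cast
        ring,
      Finset.sum_sub_distrib, ← Finset.mul_sum, ← Finset.mul_sum, ← Finset.sum_mul]
    ring
  have hqc : qform p B x = qform p B c := by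
    apply Int.cast_injective (α := ℂ)
    apply mul_left_cancel₀ (Nat.cast_ne_zero.2 (Nat.card_pos (α := G)).ne' : (Nat.card G : ℂ) ≠ 0)
    rw [qform_cast hM hB, qform_cast hM hB]
    congr 1
    refine Finset.sum_congr rfl fun g _ => ?_
    by_cases hg : p ∣ orderOf g
    · simp only [if_pos hg]
    · simp only [if_neg hg, hcomb g hg]
  set u : Cfsg.IrrCharacter G → ℤ := fun φ => sg φ * c φ with hu
  have hform : qform p B c = q * ∑ χ ∈ XF, u χ ^ 2 - (n : ℤ) * (∑ χ ∈ XF, u χ) ^ 2 := by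
    simp only [qform, ← hbf, hsplit, Finset.sum_union hdisj]
    rw [Finset.sum_eq_zero (s := YF) fun y hy => by
      simp only [hc, if_neg (hYX hy), zero_mul, Finset.sum_const_zero, add_zero], add_zero,
      Finset.sum_congr rfl fun χ _ => by
        rw [Finset.sum_eq_zero (s := YF) fun y hy => by
          simp only [hc, if_neg (hYX hy), mul_zero, zero_mul], add_zero]]
    rw [Finset.sum_congr rfl fun χ hχ => Finset.sum_congr rfl fun χ' hχ' => by
      rw [entry_of_shape hM hB hsplit hdisj hX hY hq hl hsg hδ hrel hχ hχ', ← hqdef, mul_sub]]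
    simp only [Finset.sum_sub_distrib, mul_ite, mul_zero, Finset.sum_ite_eq]
    rw [sq, Finset.sum_mul, Finset.mul_sum, Finset.mul_sum]
    congr 1
    · refine Finset.sum_congr rfl fun χ hχ => ?_
      rw [if_pos hχ]
      have hs : sg χ * sg χ = 1 := by rcases hsg χ hχ with h | h <;> simp [h]
      simp only [hu]
      linear_combination -(q * c χ * c χ) * hs
    · refine Finset.sum_congr rfl fun χ _ => ?_
      rw [Finset.mul_sum, Finset.mul_sum]
      refine Finset.sum_congr rfl fun χ' _ => ?_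
      simp only [hu]
      ring
  rw [hqc, hform, hl]
  set T := XF.filter (fun χ => u χ ≠ 0) with hT
  have hS2 : ∑ χ ∈ XF, u χ ^ 2 = ∑ χ ∈ T, u χ ^ 2 := by
    refine (Finset.sum_subset (Finset.filter_subset _ _) fun χ hχ h => ?_).symm
    have : u χ = 0 := by_contra fun h0 => h (Finset.mem_filter.2 ⟨hχ, h0⟩)
    rw [this]; exact zero_pow two_ne_zero
  have hS1 : ∑ χ ∈ XF, u χ = ∑ χ ∈ T, u χ := (Finset.sum_filter_ne_zero XF).symm
  rcases Nat.eq_zero_or_pos T.card with h0 | hm
  · left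
    rw [hS2, hS1, Finset.card_eq_zero.1 h0, Finset.sum_empty, Finset.sum_empty]
    ring
  right
  have hme : T.card ≤ e := hX ▸ Finset.card_filter_le _ _
  have hsq := sq_sum_le_card_mul_sum_sq (s := T) (f := u)
  have hge : (T.card : ℤ) ≤ ∑ χ ∈ T, u χ ^ 2 := by
    rw [← nsmul_one, ← Finset.sum_const]
    refine Finset.sum_le_sum fun χ hχ => ?_
    exact (sq_pos_of_ne_zero (Finset.mem_filter.1 hχ).2)
  rw [hS2, hS1, hqe]
  have hm' : (1 : ℤ) ≤ T.card := by exact_mod_cast hm
  have hme' : (T.card : ℤ) ≤ e := by exact_mod_cast hme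
  have hn' : (1 : ℤ) ≤ n := by exact_mod_cast hn
  nlinarith [mul_nonneg (sub_nonneg.2 hm') (sub_nonneg.2 hme'),
    mul_le_mul_of_nonneg_left hsq (by omega : (0 : ℤ) ≤ n),
    mul_le_mul_of_nonneg_right hge (by nlinarith : (0 : ℤ) ≤ 1 + n * (e - T.card)),
    mul_le_mul_of_nonneg_right hn' (mul_nonneg (by omega : (0 : ℤ) ≤ T.card) (sub_nonneg.2 hme'))]

open scoped Classical in
/-- A cyclic defect group. -/
theorem qform_ge_of_cyclic (hM : Cfsg.IsPModular p M) (hB : Cfsg.IsPBlock M B) {D : Subgroup G}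
    (hD : Cfsg.IsDefectGroup p M B D) (hcyc : IsCyclic D) (x : Cfsg.IrrCharacter G → ℤ) :
    qform p B x = 0 ∨ (Cfsg.blockRank p B : ℤ) ≤ qform p B x := by
  rcases Nat.eq_zero_or_pos (Cfsg.blockDefect p B) with h0 | hpos
  · exact qform_ge_defect_zero hM hB h0 x
  obtain ⟨P, c, hmax⟩ := H82.exists_maximal hM hB
  have hPD : Cfsg.IsDefectGroup p M B P := S4659.result p M hM B P c hmax
  have hPcard := H82.card_of_maximal hM hmax
  have hPcyc : IsCyclic P := by
    obtain ⟨g, hg⟩ := H35.defectGroup_le_conj hM hB hPD hD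
    have heq : D = P.map (MulAut.conj g).toMonoidHom := Subgroup.eq_of_le_of_card_ge hg (le_of_eq
      (by rw [Subgroup.card_map_of_injective (MulAut.conj g).injective,
        H35.card_defectGroup hM hB hD, hPcard]))
    subst heq
    exact isCyclic_of_injective
      (Subgroup.equivMapOfInjective P (MulAut.conj g).toMonoidHom (MulAut.conj g).injective).toMonoidHom
      (Subgroup.equivMapOfInjective P (MulAut.conj g).toMonoidHom (MulAut.conj g).injective).injective
  have hPC : P ≤ Subgroup.centralizer (P : Set G) := fun a ha =>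
    Subgroup.mem_centralizer_iff.2 fun b hb => congrArg Subtype.val
      ((IsCyclic.commGroup (α := P)).mul_comm ⟨b, hb⟩ ⟨a, ha⟩)
  have hind := (H83.major_of_le hM hmax hmax.1.1.1 hPC hPC Relation.ReflTransGen.refl).1
  obtain ⟨S, hSD, -⟩ := H82.Cyc.exists_setup hM hPcyc hpos hPcard hB hPD hind
  haveI : Fintype S.C1 := Fintype.ofFinite _
  have hdef := S.blockDefect_eq hM
  obtain ⟨-, Y', -, -, -, -, -, -, hne, -, hl, -⟩ := S.block_structure hM
  obtain ⟨-, X, Y, hXY, hdisj, hXc, hYc, -, sg, δ, hsg, hδ, hrel, -⟩ := S.heights_signs hM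
  have hne' : ((p ^ S.a - 1) / S.e) * S.e + 1 = p ^ S.a := by
    rw [← hne, Nat.add_sub_cancel, Nat.mul_div_cancel _ S.e_pos]
  refine qform_ge_of_shape (e := S.e) (n := (p ^ S.a - 1) / S.e) hM hB
    (XF := Finset.univ.filter (· ∈ X)) (YF := Finset.univ.filter (· ∈ Y))
    ?_ ?_ ?_ ?_ ?_ ?_ hl (fun χ hχ => hsg χ (Finset.mem_filter.1 hχ).2) hδ
    (fun y hy g hg => ?_) x
  · ext φ
    simp [hXY]
  · exact Finset.disjoint_filter.2 fun φ _ h h' => Set.disjoint_left.1 hdisj h h'
  · rw [← Fintype.card_subtype, ← Nat.card_eq_fintype_card]; exact hXc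
  · rw [← Fintype.card_subtype, ← Nat.card_eq_fintype_card]; exact hYc
  · rw [hdef]; exact hne'
  · refine Nat.one_le_iff_ne_zero.2 fun h => ?_
    rw [h, zero_mul, zero_add] at hne'
    exact (Nat.one_lt_pow (Nat.one_le_iff_ne_zero.1 S.ha) hp.out.one_lt).ne hne'
  · have h := hrel y (Finset.mem_filter.1 hy).2 g hg
    rwa [BlockBasic.finsum_mem_eq_sum_ite, ← Finset.sum_filter] at h

end Cfsg.Agent.H80.RankTwoThree
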