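import Cfsg.Agent.H83.CentralOrderP

/-!
The integral quadratic form of a block on the regular elements.
-/

set_option autoImplicit false
set_option linter.style.haveILetI false

open scoped ComplexConjugate

namespace Cfsg.Agent.H80.RankTwoThree

universe u

variable {G : Type u} [Group G] [Fintype G] {p : ℕ} [hp : Fact p.Prime] {M : Ideal Cfsg.AlgInt}
  {B : Set (Cfsg.IrrCharacter G)}

open scoped Classical in
/-- The quadratic form with matrix `H83.entry`. -/
noncomputable def qform (p : ℕ) (B : Set (Cfsg.IrrCharacter G)) (x : Cfsg.IrrCharacter G → ℤ) : ℤ :=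
  ∑ ψ ∈ Finset.univ.filter (fun ψ : Cfsg.IrrCharacter G => ψ ∈ B),
    ∑ ψ' ∈ Finset.univ.filter (fun ψ : Cfsg.IrrCharacter G => ψ ∈ B),
      x ψ * x ψ' * H83.entry p B ψ ψ'

open scoped Classical in
/-- The combination of the members of the block. -/
noncomputable def comb (B : Set (Cfsg.IrrCharacter G)) (x : Cfsg.IrrCharacter G → ℤ) (s : G) : ℂ :=
  ∑ ψ ∈ Finset.univ.filter (fun ψ : Cfsg.IrrCharacter G => ψ ∈ B), (x ψ : ℂ) * (ψ : G → ℂ) s

open scoped Classical in
theorem qform_cast (hM : Cfsg.IsPModular p M) (hB : Cfsg.IsPBlock M B)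
    (x : Cfsg.IrrCharacter G → ℤ) :
    (Nat.card G : ℂ) * (qform p B x : ℂ) = (p : ℂ) ^ Cfsg.blockDefect p B *
      ∑ s : G, if p ∣ orderOf s then 0 else comb B x s * conj (comb B x s) := by
  set bf := Finset.univ.filter (fun ψ : Cfsg.IrrCharacter G => ψ ∈ B) with hbf
  calc (Nat.card G : ℂ) * (qform p B x : ℂ)
      = ∑ ψ ∈ bf, ∑ ψ' ∈ bf, (p : ℂ) ^ Cfsg.blockDefect p B * ((x ψ : ℂ) * (x ψ' : ℂ)) *
          ((Nat.card G : ℂ) * H83.regInner p ψ ψ') := by
        simp only [qform, Int.cast_sum, Int.cast_mul, Finset.mul_sum, ← hbf]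
        refine Finset.sum_congr rfl fun ψ hψ => Finset.sum_congr rfl fun ψ' _ => ?_
        rw [H83.entry_spec hM hB (Finset.mem_filter.1 hψ).2]
        ring
    _ = ∑ ψ ∈ bf, ∑ s : G, ∑ ψ' ∈ bf, (p : ℂ) ^ Cfsg.blockDefect p B * ((x ψ : ℂ) * (x ψ' : ℂ)) *
          (if p ∣ orderOf s then 0 else (ψ : G → ℂ) s * conj ((ψ' : G → ℂ) s)) := by
        simp only [H83.regInner_eq_sum, Finset.mul_sum]
        exact Finset.sum_congr rfl fun ψ _ => Finset.sum_comm
    _ = _ := by
        rw [Finset.sum_comm, Finset.mul_sum]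
        refine Finset.sum_congr rfl fun s _ => ?_
        split_ifs
        · simp
        · simp only [comb, ← hbf, map_sum, map_mul, map_intCast, Finset.sum_mul, Finset.mul_sum]
          rw [Finset.sum_comm]
          refine Finset.sum_congr rfl fun ψ _ => Finset.sum_congr rfl fun ψ' _ => ?_
          ring

open scoped Classical in
theorem comb_eq_zero_of_qform (hM : Cfsg.IsPModular p M) (hB : Cfsg.IsPBlock M B)
    {x : Cfsg.IrrCharacter G → ℤ} (h : qform p B x = 0) {s : G} (hs : ¬ p ∣ orderOf s) :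
    comb B x s = 0 := by
  have h1 := qform_cast hM hB x
  rw [h, Int.cast_zero, mul_zero, eq_comm, mul_eq_zero] at h1
  have h2 := h1.resolve_left (pow_ne_zero _ (Nat.cast_ne_zero.2 hp.out.ne_zero))
  have h3 : ((∑ s : G, if p ∣ orderOf s then 0 else Complex.normSq (comb B x s) : ℝ) : ℂ) = 0 := by
    rw [Complex.ofReal_sum]
    refine Eq.trans (Finset.sum_congr rfl fun s _ => ?_) h2
    split_ifs
    · exact Complex.ofReal_zero
    · exact (Complex.mul_conj _).symm
  have h4 := (Finset.sum_eq_zero_iff_of_nonneg fun s _ => by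
    split_ifs <;> [exact le_rfl; exact Complex.normSq_nonneg _]).1 (Complex.ofReal_eq_zero.1 h3) s
    (Finset.mem_univ s)
  rw [if_neg hs] at h4
  exact Complex.normSq_eq_zero.1 h4

open scoped Classical in
theorem sum_entry_eq_zero_of_qform (hM : Cfsg.IsPModular p M) (hB : Cfsg.IsPBlock M B)
    {x : Cfsg.IrrCharacter G → ℤ} (h : qform p B x = 0) {ψ : Cfsg.IrrCharacter G} (hψ : ψ ∈ B) :
    ∑ ψ' ∈ Finset.univ.filter (fun ψ : Cfsg.IrrCharacter G => ψ ∈ B),
      x ψ' * H83.entry p B ψ ψ' = 0 := by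
  apply Int.cast_injective (α := ℂ)
  apply mul_left_cancel₀ (Nat.cast_ne_zero.2 (Nat.card_pos (α := G)).ne' : (Nat.card G : ℂ) ≠ 0)
  rw [Int.cast_zero, mul_zero]
  push_cast
  calc (Nat.card G : ℂ) * ∑ ψ' ∈ Finset.univ.filter (fun ψ : Cfsg.IrrCharacter G => ψ ∈ B),
        (x ψ' : ℂ) * (H83.entry p B ψ ψ' : ℂ)
      = (p : ℂ) ^ Cfsg.blockDefect p B *
          ∑ s : G, if p ∣ orderOf s then 0 else (ψ : G → ℂ) s * conj (comb B x s) := by
        rw [Finset.mul_sum, Finset.sum_congr rfl fun ψ' _ =>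
          show (Nat.card G : ℂ) * ((x ψ' : ℂ) * (H83.entry p B ψ ψ' : ℂ)) =
            ∑ s : G, (x ψ' : ℂ) * ((p : ℂ) ^ Cfsg.blockDefect p B *
              if p ∣ orderOf s then 0 else (ψ : G → ℂ) s * conj ((ψ' : G → ℂ) s)) by
          rw [H83.entry_spec hM hB hψ, mul_left_comm, mul_left_comm (Nat.card G : ℂ),
            H83.regInner_eq_sum, Finset.mul_sum, Finset.mul_sum]]
        rw [Finset.sum_comm, Finset.mul_sum]
        refine Finset.sum_congr rfl fun s _ => ?_
        split_ifs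
        · simp
        · simp only [comb, map_sum, map_mul, map_intCast, Finset.mul_sum]
          refine Finset.sum_congr rfl fun ψ' _ => ?_
          ring
    _ = 0 := by
        refine mul_eq_zero_of_right _ (Finset.sum_eq_zero fun s _ => ?_)
        split_ifs with hs
        · rfl
        · rw [comb_eq_zero_of_qform hM hB h hs, map_zero, mul_zero]

open scoped Classical in
/-- The trace of the form. -/
theorem sum_entry_self (hM : Cfsg.IsPModular p M) (hB : Cfsg.IsPBlock M B) :
    ∑ ψ ∈ Finset.univ.filter (fun ψ : Cfsg.IrrCharacter G => ψ ∈ B), H83.entry p B ψ ψ =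
      (p : ℤ) ^ Cfsg.blockDefect p B * (Cfsg.blockRank p B : ℤ) := by
  apply Int.cast_injective (α := ℂ)
  push_cast
  rw [Finset.sum_congr rfl fun ψ hψ => H83.entry_spec hM hB (Finset.mem_filter.1 hψ).2 ψ,
    ← Finset.mul_sum, Finset.sum_filter, H83.blockRank_eq_sum_regInner hM hB]

end Cfsg.Agent.H80.RankTwoThree
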