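import Mathlib

/-!
An element of maximal order in a finite abelian `p`-group is part of a minimal generating set.
-/

set_option autoImplicit false
set_option linter.style.haveILetI false

namespace Cfsg.Agent.H80.RankTwoThree

open Subgroup

universe u

variable {p : ℕ} [hp : Fact p.Prime]

theorem exists_generators_insert {A : Type u} [CommGroup A] [Finite A] (hA : IsPGroup p A)
    {v : A} (hv : ∀ a : A, orderOf a ≤ orderOf v) {r : ℕ} (S₀ : Finset A)
    (hS₀ : closure (S₀ : Set A) = ⊤) (hcard : S₀.card ≤ r + 1) :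
    ∃ S : Finset A, S.card ≤ r ∧ closure (insert v (S : Set A)) = ⊤ := by
  classical
  by_cases hv1 : v = 1
  · refine ⟨∅, Nat.zero_le _, eq_top_iff.2 fun a _ => ?_⟩
    have h := hv a
    rw [hv1, orderOf_one] at h
    have : a = 1 := orderOf_eq_one_iff.1 (le_antisymm h (orderOf_pos a))
    exact this ▸ one_mem _
  set H : Subgroup A := (powMonoidHom p : A →* A).range
  have hvH : v ∉ H := by
    rintro ⟨w, hw⟩
    have hw' : w ^ p = v := hw
    obtain ⟨k, hk⟩ := IsPGroup.iff_orderOf.1 hA w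
    have h1 : orderOf v = orderOf w / p := by
      rw [← hw', orderOf_pow' w hp.out.ne_zero]
      congr 1
      rcases k with _ | k
      · exact absurd (by rw [← hw', orderOf_eq_one_iff.1 (show orderOf w = 1 by simpa using hk), one_pow]) hv1
      · rw [hk]; exact Nat.gcd_eq_right (dvd_pow_self p k.succ_ne_zero)
    have h2 := hv w
    rw [h1] at h2
    exact absurd h2 (not_le.2 (Nat.div_lt_self (orderOf_pos w) hp.out.one_lt))
  set good := S₀.powerset.filter fun T : Finset A => v ∈ closure (T : Set A) ⊔ H with hgood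
  have hne : good.Nonempty := ⟨S₀, Finset.mem_filter.2 ⟨Finset.mem_powerset.2 le_rfl, by
    rw [hS₀, top_sup_eq]; exact mem_top v⟩⟩
  obtain ⟨T, hT, hmin⟩ := good.exists_min_image Finset.card hne
  obtain ⟨hTS, hvT⟩ := Finset.mem_filter.1 hT
  rw [Finset.mem_powerset] at hTS
  obtain ⟨s, hs⟩ : T.Nonempty := by
    by_contra h
    rw [Finset.not_nonempty_iff_eq_empty.1 h, Finset.coe_empty, Subgroup.closure_empty, bot_sup_eq] at hvT
    exact hvH hvT
  set W := closure (((T.erase s : Finset A) : Set A)) ⊔ H with hW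
  have hvW : v ∉ W := fun h => by
    have h1 := hmin (T.erase s) (Finset.mem_filter.2
      ⟨Finset.mem_powerset.2 ((Finset.erase_subset _ _).trans hTS), h⟩)
    exact absurd h1 (not_le.2 (Finset.card_erase_lt_of_mem hs))
  have hdec : v ∈ zpowers s ⊔ W := by
    refine SetLike.le_def.1 (sup_le ?_ ?_) hvT
    · rw [closure_le]
      intro a ha
      by_cases has : a = s
      · exact mem_sup_left (has ▸ mem_zpowers s)
      · exact mem_sup_right (mem_sup_left (subset_closure (Finset.mem_coe.2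
          (Finset.mem_erase.2 ⟨has, Finset.mem_coe.1 ha⟩))))
    · exact le_trans le_sup_right le_sup_right
  obtain ⟨_, ⟨i, rfl⟩, w, hw, hvw⟩ := mem_sup.1 hdec
  have hi : ¬ (p : ℤ) ∣ i := by
    rintro ⟨j, rfl⟩
    refine hvW (hvw ▸ mul_mem (mem_sup_right ?_) hw)
    exact ⟨s ^ j, by
      show (s ^ j) ^ p = s ^ ((p : ℤ) * j)
      rw [← zpow_natCast, ← zpow_mul, mul_comm]⟩
  refine ⟨S₀.erase s, by rw [Finset.card_erase_of_mem (hTS hs)]; omega, ?_⟩
  set K := closure (insert v ((S₀.erase s : Finset A) : Set A)) with hK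
  have hWK : W ≤ K ⊔ H := sup_le_sup_right (closure_mono (Set.Subset.trans
    (Finset.coe_subset.2 (Finset.erase_subset_erase s hTS)) (Set.subset_insert _ _))) H
  have hsi : s ^ i ∈ K ⊔ H := by
    have h1 : v ∈ K := subset_closure (Set.mem_insert _ _)
    have h2 : s ^ i = v * w⁻¹ := eq_mul_inv_of_mul_eq hvw
    rw [h2]
    exact mul_mem (mem_sup_left h1) (inv_mem (hWK hw))
  have hsp : s ^ (p : ℤ) ∈ K ⊔ H := mem_sup_right ⟨s, (zpow_natCast s p).symm⟩
  have hsK : s ∈ K ⊔ H := by
    obtain ⟨a, c, hac⟩ := Int.isCoprime_iff_gcd_eq_one.2 (show Int.gcd i p = 1 by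
      rw [Int.gcd_comm]
      exact (Int.natCast_dvd.not.1 hi |> hp.out.coprime_iff_not_dvd.2 :))
    rw [← zpow_one s, ← hac, zpow_add, mul_comm a, mul_comm c, zpow_mul, zpow_mul]
    exact mul_mem (zpow_mem hsi a) (zpow_mem hsp c)
  have htop : K ⊔ H = ⊤ := by
    rw [eq_top_iff, ← hS₀, closure_le]
    intro a ha
    by_cases has : a = s
    · exact has ▸ hsK
    · exact mem_sup_left (subset_closure (Or.inr (Finset.mem_coe.2
        (Finset.mem_erase.2 ⟨has, Finset.mem_coe.1 ha⟩))))
  -- the quotient by `K` consists of `p`-th powers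
  have hsurj : Function.Surjective (fun q : A ⧸ K => q ^ p) := by
    intro q
    obtain ⟨a, rfl⟩ := QuotientGroup.mk'_surjective K q
    obtain ⟨k, hk, _, ⟨z, rfl⟩, rfl⟩ := mem_sup.1 (htop ▸ mem_top a : a ∈ K ⊔ H)
    refine ⟨(z : A ⧸ K), ?_⟩
    simp only [QuotientGroup.mk'_apply, powMonoidHom_apply, QuotientGroup.mk_mul,
      QuotientGroup.mk_pow, (QuotientGroup.eq_one_iff k).2 hk, one_mul]
  have hinj : Function.Injective (fun q : A ⧸ K => q ^ p) := Finite.injective_iff_surjective.2 hsurj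
  rw [← QuotientGroup.subsingleton_iff]
  refine subsingleton_of_forall_eq (1 : A ⧸ K) fun q => ?_
  obtain ⟨k, hk⟩ := hA.to_quotient K q
  induction k generalizing q with
  | zero => simpa using hk
  | succ k ih =>
    have h1 : q ^ p = 1 := ih (q ^ p) (by rw [← pow_mul, ← pow_succ', hk])
    exact hinj (show q ^ p = (1 : A ⧸ K) ^ p by rw [h1, one_pow])

theorem card_closure_le {A : Type u} [CommGroup A] [Finite A] {n : ℕ} (S : Finset A)
    (hn : ∀ a ∈ S, orderOf a ≤ n) : Nat.card (closure (S : Set A)) ≤ n ^ S.card := by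
  classical
  induction S using Finset.induction with
  | empty => simp
  | insert a S ha ih =>
    rw [Finset.coe_insert, Set.insert_eq, Subgroup.closure_union, ← zpowers_eq_closure,
      Finset.card_insert_of_notMem ha, pow_succ']
    refine le_trans ?_ (Nat.mul_le_mul ((Nat.card_zpowers a).le.trans (hn a (Finset.mem_insert_self _ _)))
      (ih fun b hb => hn b (Finset.mem_insert_of_mem hb)))
    rw [← Nat.card_prod]
    refine Nat.card_le_card_of_surjective
      (fun x : zpowers a × closure (S : Set A) =>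
        (⟨(x.1 : A) * x.2, mul_mem (mem_sup_left x.1.2) (mem_sup_right x.2.2)⟩ :
          ↥(zpowers a ⊔ closure (S : Set A)))) ?_
    rintro ⟨g, hg⟩
    obtain ⟨x, hx, y, hy, rfl⟩ := mem_sup.1 hg
    exact ⟨⟨⟨x, hx⟩, ⟨y, hy⟩⟩, rfl⟩

end Cfsg.Agent.H80.RankTwoThree
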