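import Cfsg.Agent.H80.RankTwoThree.Form
import Cfsg.Agent.H24.QuotientDefect
import Cfsg.Agent.H81.RankQuotient
import Cfsg.Agent.CharInduce.Brauer

/-!
A block modulo a central `p`-subgroup: the quadratic form and the rank.
-/

set_option autoImplicit false
set_option linter.style.haveILetI false

open scoped ComplexConjugate

namespace Cfsg.Agent.H80.RankTwoThree

open BlockBasic CharBasic
open H24.QuotientDefect (infl)

universe u

variable {G : Type u} [Group G] [Fintype G] {p : ℕ} [hp : Fact p.Prime] {M : Ideal Cfsg.AlgInt}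

/-- A power that is one on the Sylow `p`-subgroup and the identity on the other factors. -/
theorem exists_pReg_exponent : ∃ m : ℕ, ∀ g : G, g ^ m = pReg (p := p) g := by
  classical
  set a := (Nat.card G).factorization p
  set c := Nat.card G / p ^ a with hc
  have hco : Nat.Coprime (p ^ a) c :=
    (hp.out.coprime_iff_not_dvd.2 (Nat.not_dvd_ordCompl hp.out Nat.card_pos.ne')).pow_left a
  obtain ⟨m, hm1, hm2⟩ := Nat.chineseRemainder hco 0 1
  refine ⟨m, fun g => ?_⟩
  conv_lhs => rw [← pPart_mul_pReg (p := p) g, (commute_pPart_pReg g).mul_pow]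
  have h1 : pPart (p := p) g ^ m = 1 := by
    refine orderOf_dvd_iff_pow_eq_one.1 (dvd_trans ?_ (Nat.modEq_zero_iff_dvd.1 hm1))
    obtain ⟨k, hk⟩ := exists_orderOf_pPart (p := p) g
    rw [hk]
    exact pow_dvd_pow p ((hp.out.pow_dvd_iff_le_factorization Nat.card_pos.ne').1
      (hk ▸ orderOf_dvd_natCard _))
  have h2 : pReg (p := p) g ^ m = pReg (p := p) g := by
    have hd : orderOf (pReg (p := p) g) ∣ c := by
      refine Nat.Coprime.dvd_of_dvd_mul_left (k := orderOf (pReg (p := p) g)) (m := p ^ a) ?_ ?_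
      · exact ((hp.out.coprime_iff_not_dvd.2 (not_dvd_orderOf_pReg g)).pow_left a).symm
      · rw [Nat.ordProj_mul_ordCompl_eq_self]
        exact orderOf_dvd_natCard _
    have h := pow_eq_pow_iff_modEq (x := pReg (p := p) g).2 (hm2.of_dvd hd)
    rwa [pow_one] at h
  rw [h1, h2, one_mul]

/-- A character on the regular parts is a generalised character. -/
theorem isGeneralized_pReg {χ : G → ℂ} (hχ : Cfsg.IsCharacter G χ) :
    Cfsg.IsGeneralizedCharacter G (fun g => χ (pReg (p := p) g)) := by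
  classical
  obtain ⟨m, hm⟩ := exists_pReg_exponent (G := G) (p := p)
  refine CharInduce.isGeneralized_of_elem (fun g x => ?_) fun E hE => ?_
  · show χ (pReg (p := p) (x * g * x⁻¹)) = χ (pReg (p := p) g)
    rw [show pReg (p := p) (x * g * x⁻¹) = x * pReg (p := p) g * x⁻¹ by
      rw [pReg, pReg, pPart_conj]; group]
    exact CharBasic.IsChar.isClassFunction hχ _ _
  · obtain ⟨q, hq, hE⟩ := hE
    haveI : Fact q.Prime := ⟨hq⟩
    haveI : Group.IsNilpotent E := CharInduce.isNilpotent_of_isElementary hE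
    obtain ⟨φ⟩ := ((Group.isNilpotent_of_finite_tfae (G := E)).out 0 4).1
      (inferInstance : Group.IsNilpotent E)
    have hmul : ∀ a b : E, (a * b) ^ m = a ^ m * b ^ m := by
      intro a b
      obtain ⟨a, rfl⟩ := φ.surjective a
      obtain ⟨b, rfl⟩ := φ.surjective b
      rw [← map_mul, ← map_pow, ← map_pow, ← map_pow, ← map_mul]
      congr 1
      funext r P
      simp only [Pi.pow_apply, Pi.mul_apply]
      by_cases hr : (r : ℕ) = p
      · have h1 : ∀ w : (P : Subgroup E), w ^ m = 1 := fun w => by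
          refine Subtype.ext (Subtype.ext ?_)
          simp only [SubmonoidClass.coe_pow, OneMemClass.coe_one, hm]
          haveI : Fact (Nat.Prime (r : ℕ)) := ⟨Nat.prime_of_mem_primeFactors r.2⟩
          obtain ⟨k, hk⟩ := IsPGroup.iff_orderOf.1 P.isPGroup' w
          rw [← Subgroup.orderOf_coe, ← Subgroup.orderOf_coe] at hk
          have h := pPart_mul_of (p := p) (Commute.one_right ((w : E) : G))
            ⟨k, hk.trans (by rw [hr])⟩
            (show ¬ p ∣ orderOf (1 : G) by rw [orderOf_one, Nat.dvd_one]; exact hp.out.ne_one)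
          rw [mul_one] at h
          rw [pReg, h, inv_mul_cancel]
        rw [h1, h1, h1, mul_one]
      · have h1 : ∀ w : (P : Subgroup E), w ^ m = w := fun w => by
          refine Subtype.ext (Subtype.ext ?_)
          simp only [SubmonoidClass.coe_pow, hm]
          haveI : Fact (Nat.Prime (r : ℕ)) := ⟨Nat.prime_of_mem_primeFactors r.2⟩
          obtain ⟨k, hk⟩ := IsPGroup.iff_orderOf.1 P.isPGroup' w
          rw [← Subgroup.orderOf_coe, ← Subgroup.orderOf_coe] at hk
          rw [pReg, (pPart_eq_one_iff _).2 ?_, inv_one, one_mul]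
          rw [hk]
          exact fun h => hr ((Nat.prime_dvd_prime_iff_eq hp.out
            (Nat.prime_of_mem_primeFactors r.2)).1 (hp.out.dvd_of_dvd_pow h)).symm
        rw [h1, h1, h1]
    let f : E →* G :=
      { toFun := fun x => ((x ^ m : E) : G)
        map_one' := by simp
        map_mul' := fun a b => by rw [hmul]; rfl }
    have h := CharInduce.IsGen.of_char (CharInduce.IsChar.comp hχ f)
    refine (congrArg _ (funext fun e => ?_)).mp h
    show χ (((e ^ m : E) : G)) = χ (pReg (p := p) (e : G))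
    rw [SubmonoidClass.coe_pow, hm]

variable {Z : Subgroup G}

theorem sup_centralizer_eq_top (hZ : Z ≤ Subgroup.center G) :
    Z ⊔ Subgroup.centralizer (Z : Set G) = ⊤ :=
  eq_top_iff.2 fun x _ => Subgroup.mem_sup_right
    (Subgroup.mem_centralizer_iff.2 fun z hz => (Subgroup.mem_center_iff.1 (hZ hz) x).symm)

variable [Z.Normal]

theorem sameBlock_infl_iff (hM : Cfsg.IsPModular p M) (hZ : Z ≤ Subgroup.center G)
    (hZp : IsPGroup p Z) (ξ η : Cfsg.IrrCharacter (G ⧸ Z)) :
    Cfsg.SameBlock M (infl Z ξ : G → ℂ) (infl Z η : G → ℂ) ↔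
      Cfsg.SameBlock M (ξ : G ⧸ Z → ℂ) (η : G ⧸ Z → ℂ) := by
  refine ⟨fun h => sameBlock_of_congr_regular hM fun q hq => ?_,
    H24.QuotientDefect.sameBlock_infl hM Z⟩
  obtain ⟨g, hg, rfl⟩ := H81.exists_regular_lift Z hq
  have key : ∀ ζ : Cfsg.IrrCharacter (G ⧸ Z), Cfsg.centralChar (infl Z ζ : G → ℂ) g =
      Cfsg.centralChar (ζ : G ⧸ Z → ℂ) (g : G ⧸ Z) := fun ζ => by
    show ((Subgroup.centralizer ({g} : Set G)).index : ℂ) * (ζ : G ⧸ Z → ℂ) (g : G ⧸ Z) /
      (ζ : G ⧸ Z → ℂ) ((1 : G) : G ⧸ Z) = _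
    rw [Cfsg.centralChar, H81.classSize_regular Z hZp (sup_centralizer_eq_top hZ) hg]
    rfl
  rw [← key, ← key]
  exact h g

open scoped Classical in
/-- The dominated block. -/
theorem exists_dominated (hM : Cfsg.IsPModular p M) (hZ : Z ≤ Subgroup.center G)
    (hZp : IsPGroup p Z) {b : Set (Cfsg.IrrCharacter G)} (hb : Cfsg.IsPBlock M b) :
    ∃ bq : Set (Cfsg.IrrCharacter (G ⧸ Z)), Cfsg.IsPBlock M bq ∧
      (∀ ξ, ξ ∈ bq ↔ infl Z ξ ∈ b) ∧
      ∀ Dbar : Subgroup (G ⧸ Z), Cfsg.IsDefectGroup p M bq Dbar ↔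
        ∃ P : Subgroup G, Cfsg.IsDefectGroup p M b P ∧ Dbar = P.map (QuotientGroup.mk' Z) := by
  obtain ⟨bq, hbq, hsub, hD⟩ := H24.QuotientDefect.exists_contained hM Z hZp hb
  refine ⟨bq, hbq, fun ξ => ⟨hsub ξ, fun h => ?_⟩, hD⟩
  obtain ⟨η, hη⟩ := isPBlock_nonempty hM hbq
  rw [isPBlock_eq_blockOf hM hbq hη, mem_blockOf, ← sameBlock_infl_iff hM hZ hZp]
  exact isPBlock_sameBlock hM hb (hsub η hη) h

open scoped Classical in
theorem sum_regular_quotient (hZ : Z ≤ Subgroup.center G) (hZp : IsPGroup p Z)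
    [Fintype (G ⧸ Z)] (F : G ⧸ Z → ℂ) :
    (∑ s : G, if p ∣ orderOf s then 0 else F (s : G ⧸ Z)) =
      ∑ q : G ⧸ Z, if p ∣ orderOf q then 0 else F q := by
  simp only [← ite_not (p ∣ orderOf _), ← Finset.sum_filter]
  refine Finset.sum_bij (fun s _ => (s : G ⧸ Z)) (fun s hs => ?_) (fun s hs t ht h => ?_)
    (fun q hq => ?_) fun s _ => rfl
  · exact Finset.mem_filter.2 ⟨Finset.mem_univ _, H81.regular_map Z (Finset.mem_filter.1 hs).2⟩
  · exact H81.eq_of_regular_of_mk_eq Z hZp (sup_centralizer_eq_top hZ) (Finset.mem_filter.1 hs).2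
      (Finset.mem_filter.1 ht).2 h
  · obtain ⟨g, hg, rfl⟩ := H81.exists_regular_lift Z (Finset.mem_filter.1 hq).2
    exact ⟨g, Finset.mem_filter.2 ⟨Finset.mem_univ _, hg⟩, rfl⟩

open scoped Classical in
/-- On regular elements a character is an integral combination of inflated ones. -/
theorem exists_int_infl (hZ : Z ≤ Subgroup.center G) (hZp : IsPGroup p Z) [Fintype (G ⧸ Z)]
    (ψ : Cfsg.IrrCharacter G) : ∃ n : Cfsg.IrrCharacter (G ⧸ Z) → ℤ,
      ∀ s : G, ¬ p ∣ orderOf s →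
        (ψ : G → ℂ) s = ∑ ξ, (n ξ : ℂ) * (infl Z ξ : G → ℂ) s := by
  set θ : G → ℂ := fun g => (ψ : G → ℂ) (pReg (p := p) g) with hθ
  have hgen : Cfsg.IsGeneralizedCharacter G θ := isGeneralized_pReg (IsIrr.isCharacter ψ.2)
  have hinv : ∀ g, ∀ z ∈ Z, θ (g * z) = θ g := by
    intro g z hz
    have hc : ∀ w : G, Commute z w := fun w => (Subgroup.mem_center_iff.1 (hZ hz) w).symm
    simp only [hθ]
    refine congrArg _ ?_
    obtain ⟨i, hi⟩ := IsPGroup.iff_orderOf.1 hZp ⟨z, hz⟩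
    rw [Subgroup.orderOf_mk] at hi
    obtain ⟨j, hj⟩ := exists_orderOf_pPart (p := p) g
    have hk : ∃ k, orderOf (pPart (p := p) g * z) = p ^ k := by
      obtain ⟨k, -, hk⟩ := (Nat.dvd_prime_pow hp.out).1
        (((hc (pPart (p := p) g)).symm.orderOf_mul_dvd_lcm).trans (by
          rw [hi, hj]
          exact Nat.lcm_dvd (pow_dvd_pow p (le_max_left j i)) (pow_dvd_pow p (le_max_right j i))))
      exact ⟨k, hk⟩
    have heq : g * z = pPart (p := p) g * z * pReg (p := p) g := by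
      conv_lhs => rw [← pPart_mul_pReg (p := p) g]
      rw [mul_assoc, ← (hc (pReg (p := p) g)).eq, mul_assoc]
    show (pPart (p := p) (g * z))⁻¹ * (g * z) = pReg (p := p) g
    rw [heq, pPart_mul_of ((commute_pPart_pReg g).mul_left (hc _)) hk (not_dvd_orderOf_pReg g),
      inv_mul_cancel_left]
  set θq : G ⧸ Z → ℂ := fun q => θ q.out with hθq
  have hlift : ∀ g : G, θq (g : G ⧸ Z) = θ g := fun g => by
    obtain ⟨z, hz⟩ := QuotientGroup.mk_out_eq_mul Z g
    simp only [hθq, hz]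
    exact hinv g z z.2
  have hclass : Cfsg.IsClassFunction (G ⧸ Z) θq := by
    intro q c
    obtain ⟨g, rfl⟩ := QuotientGroup.mk'_surjective Z q
    obtain ⟨c, rfl⟩ := QuotientGroup.mk'_surjective Z c
    simp only [QuotientGroup.mk'_apply]
    rw [← QuotientGroup.mk_inv, ← QuotientGroup.mk_mul, ← QuotientGroup.mk_mul, hlift, hlift]
    exact CharInduce.IsGen.isClassFunction hgen g c
  have hsumG : ∀ F : G ⧸ Z → ℂ, ∑ g : G, F (g : G ⧸ Z) = (Nat.card Z : ℂ) * ∑ q, F q := by
    intro F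
    rw [← (Subgroup.groupEquivQuotientProdSubgroup (s := Z)).symm.sum_comp, Fintype.sum_prod_type,
      Finset.mul_sum]
    refine Finset.sum_congr rfl fun q _ => ?_
    rw [Finset.sum_congr rfl (g := fun _ => F q) fun z _ => ?_, Finset.sum_const, Finset.card_univ,
      ← Nat.card_eq_fintype_card, nsmul_eq_mul]
    congr 1
    have h := congrArg Prod.fst
      ((Subgroup.groupEquivQuotientProdSubgroup (s := Z)).apply_symm_apply (q, z))
    exact h
  have hint : ∀ ξ : Cfsg.IrrCharacter (G ⧸ Z), ∃ n : ℤ,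
      Cfsg.classInner θq (ξ : G ⧸ Z → ℂ) = (n : ℂ) := by
    intro ξ
    obtain ⟨n, hn⟩ := CharInduce.IsGen.exists_int_coeff hgen (IsIrr.isCharacter (infl Z ξ).2)
    refine ⟨n, ?_⟩
    rw [← hn, classInner_def, classInner_def]
    have e1 : ∑ g : G, θ g * conj ((infl Z ξ : G → ℂ) g) =
        (Nat.card Z : ℂ) * ∑ q, θq q * conj ((ξ : G ⧸ Z → ℂ) q) := by
      rw [← hsumG fun q => θq q * conj ((ξ : G ⧸ Z → ℂ) q)]
      refine Finset.sum_congr rfl fun g _ => ?_
      rw [hlift]
      rfl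
    rw [e1, Subgroup.card_eq_card_quotient_mul_card_subgroup Z, Nat.cast_mul, mul_inv, mul_assoc,
      inv_mul_cancel_left₀ (Nat.cast_ne_zero.2 Nat.card_pos.ne')]
  choose n hn using hint
  refine ⟨n, fun s hs => ?_⟩
  have h := congrFun (classFunction_expansion hclass) (s : G ⧸ Z)
  rw [hlift] at h
  simp only [hn, Finset.sum_apply, Pi.smul_apply, smul_eq_mul] at h
  refine Eq.trans ?_ h
  simp only [hθ]
  rw [pReg, (pPart_eq_one_iff _).2 hs, inv_one, one_mul]

variable {b : Set (Cfsg.IrrCharacter G)} {bq : Set (Cfsg.IrrCharacter (G ⧸ Z))}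

open scoped Classical in
/-- Within a block only the inflations from the dominated block occur. -/
theorem exists_int_dominated (hM : Cfsg.IsPModular p M) (hZ : Z ≤ Subgroup.center G)
    (hZp : IsPGroup p Z) [Fintype (G ⧸ Z)] (hb : Cfsg.IsPBlock M b)
    (hmem : ∀ ξ, ξ ∈ bq ↔ infl Z ξ ∈ b) {ψ : Cfsg.IrrCharacter G} (hψ : ψ ∈ b) :
    ∃ n : Cfsg.IrrCharacter (G ⧸ Z) → ℤ, ∀ s : G, ¬ p ∣ orderOf s →
      (ψ : G → ℂ) s = comb bq n (s : G ⧸ Z) := by
  obtain ⟨n, hn⟩ := exists_int_infl hZ hZp ψ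
  refine ⟨n, fun s₀ hs₀ => ?_⟩
  set T := Finset.univ.filter (fun ξ : Cfsg.IrrCharacter (G ⧸ Z) => ξ ∉ bq) with hT
  set S := Finset.univ.filter (fun ξ : Cfsg.IrrCharacter (G ⧸ Z) => ξ ∈ bq) with hS
  set D : G → ℂ := fun s => ∑ ξ ∈ T, (n ξ : ℂ) * (infl Z ξ : G → ℂ) s
  have hD : ∀ s, ¬ p ∣ orderOf s → D s = (ψ : G → ℂ) s - comb bq n (s : G ⧸ Z) := by
    intro s hs
    rw [hn s hs, ← Finset.sum_filter_add_sum_filter_not Finset.univ (fun ξ => ξ ∈ bq)]
    exact (add_sub_cancel_left _ _).symm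
  have horth : ∀ φ ∈ b, ∀ ξ ∈ T, (∑ s : G, if p ∣ orderOf s then 0 else
      (φ : G → ℂ) s * conj ((infl Z ξ : G → ℂ) s)) = 0 := by
    intro φ hφ ξ hξ
    have h0 := sum_regular_eq_zero hM hb hφ fun hc => (Finset.mem_filter.1 hξ).2 ((hmem ξ).2 hc)
    rw [Finset.sum_filter] at h0
    refine Eq.trans (Finset.sum_congr rfl fun s _ => ?_) h0
    rw [ite_not]
  have hzero : (∑ s : G, if p ∣ orderOf s then 0 else D s * conj (D s)) = 0 := by
    calc (∑ s : G, if p ∣ orderOf s then 0 else D s * conj (D s))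
        = ∑ s : G, ∑ ξ ∈ T, (n ξ : ℂ) * ((if p ∣ orderOf s then 0 else
              (ψ : G → ℂ) s * conj ((infl Z ξ : G → ℂ) s)) -
            ∑ η ∈ S, (n η : ℂ) * if p ∣ orderOf s then 0 else
              (infl Z η : G → ℂ) s * conj ((infl Z ξ : G → ℂ) s)) := by
          refine Finset.sum_congr rfl fun s _ => ?_
          by_cases hs : p ∣ orderOf s
          · simp [hs]
          · simp only [if_neg hs]
            rw [show D s * conj (D s) = ∑ ξ ∈ T, (n ξ : ℂ) * (D s * conj ((infl Z ξ : G → ℂ) s)) by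
              simp only [D, map_sum, map_mul, map_intCast, Finset.mul_sum]
              exact Finset.sum_congr rfl fun ξ _ => by ring]
            refine Finset.sum_congr rfl fun ξ _ => ?_
            rw [hD s hs, sub_mul]
            simp only [comb, ← hS, Finset.sum_mul, mul_assoc]
            rfl
      _ = 0 := by
          rw [Finset.sum_comm]
          refine Finset.sum_eq_zero fun ξ hξ => ?_
          rw [← Finset.mul_sum, Finset.sum_sub_distrib, horth ψ hψ ξ hξ, Finset.sum_comm,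
            Finset.sum_eq_zero fun η hη => by
              rw [← Finset.mul_sum, horth _ ((hmem η).1 (Finset.mem_filter.1 hη).2) ξ hξ, mul_zero],
            sub_zero, mul_zero]
  have h3 : ((∑ s : G, if p ∣ orderOf s then 0 else Complex.normSq (D s) : ℝ) : ℂ) = 0 := by
    rw [Complex.ofReal_sum]
    refine Eq.trans (Finset.sum_congr rfl fun s _ => ?_) hzero
    split_ifs
    · exact Complex.ofReal_zero
    · exact (Complex.mul_conj _).symm
  have h4 := (Finset.sum_eq_zero_iff_of_nonneg fun s _ => by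
    split_ifs <;> [exact le_rfl; exact Complex.normSq_nonneg _]).1 (Complex.ofReal_eq_zero.1 h3) s₀
    (Finset.mem_univ s₀)
  rw [if_neg hs₀] at h4
  exact sub_eq_zero.1 ((hD s₀ hs₀).symm.trans (Complex.normSq_eq_zero.1 h4))

open scoped Classical in
/-- The values of the form of a block are values of the form of the dominated block. -/
theorem exists_qform_eq (hM : Cfsg.IsPModular p M) (hZ : Z ≤ Subgroup.center G)
    (hZp : IsPGroup p Z) [Fintype (G ⧸ Z)] (hb : Cfsg.IsPBlock M b) (hbq : Cfsg.IsPBlock M bq)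
    (hmem : ∀ ξ, ξ ∈ bq ↔ infl Z ξ ∈ b) {t : ℕ} (ht : Nat.card Z = p ^ t)
    (hd : Cfsg.blockDefect p b = Cfsg.blockDefect p bq + t) (x : Cfsg.IrrCharacter G → ℤ) :
    ∃ y : Cfsg.IrrCharacter (G ⧸ Z) → ℤ, qform p b x = qform p bq y := by
  choose n hn using fun ψ : {ψ : Cfsg.IrrCharacter G // ψ ∈ b} =>
    exists_int_dominated hM hZ hZp hb hmem ψ.2
  set y : Cfsg.IrrCharacter (G ⧸ Z) → ℤ := fun ξ =>
    ∑ ψ : {ψ : Cfsg.IrrCharacter G // ψ ∈ b}, x ψ.1 * n ψ ξ with hy
  refine ⟨y, ?_⟩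
  have hf : ∀ s : G, ¬ p ∣ orderOf s → comb b x s = comb bq y (s : G ⧸ Z) := by
    intro s hs
    simp only [comb, hy, Int.cast_sum, Int.cast_mul, Finset.sum_mul]
    rw [Finset.sum_comm, Finset.sum_subtype (p := fun ψ => ψ ∈ b) _ (fun ψ => by simp) fun ψ : Cfsg.IrrCharacter G =>
      (x ψ : ℂ) * (ψ : G → ℂ) s]
    refine Finset.sum_congr rfl fun ψ _ => ?_
    rw [hn ψ s hs, comb, Finset.mul_sum]
    exact Finset.sum_congr rfl fun ξ _ => (mul_assoc _ _ _).symm
  apply Int.cast_injective (α := ℂ)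
  apply mul_left_cancel₀ (Nat.cast_ne_zero.2 (Nat.card_pos (α := G)).ne' : (Nat.card G : ℂ) ≠ 0)
  rw [qform_cast hM hb x, Finset.sum_congr rfl (g := fun s : G => if p ∣ orderOf s then 0 else
    (fun q => comb bq y q * conj (comb bq y q)) (s : G ⧸ Z)) fun s _ => ?_,
    sum_regular_quotient hZ hZp fun q => comb bq y q * conj (comb bq y q),
    Subgroup.card_eq_card_quotient_mul_card_subgroup Z, Nat.cast_mul, mul_right_comm,
    qform_cast hM hbq y, hd, ht, pow_add]
  · push_cast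
    ring
  · by_cases hs : p ∣ orderOf s
    · simp only [if_pos hs]
    · simp only [if_neg hs, hf s hs]

open scoped Classical in
/-- The rank does not exceed that of the dominated block. -/
theorem blockRank_le_dominated (hM : Cfsg.IsPModular p M) (hZ : Z ≤ Subgroup.center G)
    (hZp : IsPGroup p Z) [Fintype (G ⧸ Z)] (hb : Cfsg.IsPBlock M b)
    (hmem : ∀ ξ, ξ ∈ bq ↔ infl Z ξ ∈ b) :
    Cfsg.blockRank p b ≤ Cfsg.blockRank p bq := by
  let L : (G ⧸ Z → ℂ) →ₗ[ℂ] (G → ℂ) :=
    { toFun := fun f => Cfsg.pRegularPart p (fun x => f (x : G ⧸ Z))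
      map_add' := fun f h => funext fun x => by
        by_cases hx : p ∣ orderOf x
        · simp [H81.pRegularPart_of_sing hx]
        · simp [H81.pRegularPart_of_reg hx]
      map_smul' := fun c f => funext fun x => by
        by_cases hx : p ∣ orderOf x
        · simp [H81.pRegularPart_of_sing hx]
        · simp [H81.pRegularPart_of_reg hx] }
  set W := Submodule.span ℂ
    ((fun ξ : Cfsg.IrrCharacter (G ⧸ Z) => Cfsg.pRegularPart p (ξ : G ⧸ Z → ℂ)) '' bq) with hW
  have hle : Submodule.span ℂ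
      ((fun χ : Cfsg.IrrCharacter G => Cfsg.pRegularPart p (χ : G → ℂ)) '' b) ≤ W.map L := by
    rw [Submodule.span_le]
    rintro _ ⟨ψ, hψ, rfl⟩
    obtain ⟨n, hn⟩ := exists_int_dominated hM hZ hZp hb hmem hψ
    refine ⟨∑ ξ ∈ Finset.univ.filter (fun ξ : Cfsg.IrrCharacter (G ⧸ Z) => ξ ∈ bq),
      (n ξ : ℂ) • Cfsg.pRegularPart p (ξ : G ⧸ Z → ℂ),
      Submodule.sum_mem _ fun ξ hξ => Submodule.smul_mem _ _
        (Submodule.subset_span ⟨ξ, (Finset.mem_filter.1 hξ).2, rfl⟩), funext fun s => ?_⟩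
    show Cfsg.pRegularPart p (fun x : G => (∑ ξ ∈ _, (n ξ : ℂ) •
      Cfsg.pRegularPart p (ξ : G ⧸ Z → ℂ)) (x : G ⧸ Z)) s = Cfsg.pRegularPart p (ψ : G → ℂ) s
    by_cases hs : p ∣ orderOf s
    · rw [H81.pRegularPart_of_sing hs, H81.pRegularPart_of_sing hs]
    · rw [H81.pRegularPart_of_reg hs, H81.pRegularPart_of_reg hs, hn s hs, comb]
      simp only [Finset.sum_apply, Pi.smul_apply, smul_eq_mul,
        H81.pRegularPart_of_reg (H81.regular_map Z hs)]
  exact (Submodule.finrank_mono hle).trans (Submodule.finrank_map_le L W)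

end Cfsg.Agent.H80.RankTwoThree
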