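import Cfsg.Agent.H80.RankTwoThree.Inflate
import Cfsg.Agent.H80.RankTwoThree.CyclicForm
import Cfsg.Agent.H80.RankTwoThree.Average
import Cfsg.Agent.H80.RankTwoThree.Gens
import Cfsg.Agent.H83.MajorContrib
import Cfsg.Agent.H35.BlockInduction

/-!
Blocks with commutative defect groups of rank two and three: numbers of characters.
-/

set_option autoImplicit false
set_option linter.style.haveILetI false

open Polynomial
open scoped ComplexConjugate

namespace Cfsg.Agent.H80.RankTwoThree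

universe u

variable {G : Type u} [Group G] [Fintype G] {p : ℕ} [hp : Fact p.Prime] {M : Ideal Cfsg.AlgInt}
  {B : Set (Cfsg.IrrCharacter G)}

omit [Fintype G] hp in
theorem rank_congr_equiv [Finite G] {H : Type*} [Group H] [Finite H] {P : Subgroup G}
    {Q : Subgroup H} (φ : P ≃* Q) : Group.rank P = Group.rank Q :=
  Group.rank_congr φ

omit [Fintype G] hp in
/-- The image of a commutative subgroup modulo a maximal cyclic one loses a generator. -/
theorem rank_map_quotient [Finite G] [Fact p.Prime] {Q : Subgroup G} (hQ : IsPGroup p Q)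
    (hab : ∀ x ∈ Q, ∀ y ∈ Q, x * y = y * x) {r : ℕ} (hr : Group.rank Q ≤ r + 1) {v : G}
    (hv : v ∈ Q) (hmax : ∀ x ∈ Q, orderOf x ≤ orderOf v) (Z : Subgroup G) [Z.Normal] (hvZ : v ∈ Z) :
    Group.rank ↥(Q.map (QuotientGroup.mk' Z)) ≤ r := by
  classical
  letI : CommGroup Q :=
    { (inferInstance : Group Q) with mul_comm := fun a b => Subtype.ext (hab a a.2 b b.2) }
  obtain ⟨S₀, hS₀c, hS₀⟩ := Group.rank_spec (G := Q)
  obtain ⟨S, hSc, hS⟩ := exists_generators_insert (p := p) hQ (v := (⟨v, hv⟩ : Q))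
    (fun a => by rw [Subgroup.orderOf_mk, ← Subgroup.orderOf_coe]; exact hmax _ a.2) S₀ hS₀
    (hS₀c ▸ hr)
  set f : Q →* G ⧸ Z := (QuotientGroup.mk' Z).comp Q.subtype
  have heq : Q.map (QuotientGroup.mk' Z) = Subgroup.closure ((S.image f : Finset (G ⧸ Z)) : Set (G ⧸ Z)) := by
    calc Q.map (QuotientGroup.mk' Z) = (⊤ : Subgroup Q).map f := by
          rw [← Subgroup.map_map, ← MonoidHom.range_eq_map, Subgroup.range_subtype]
      _ = (Subgroup.closure (insert (⟨v, hv⟩ : Q) (S : Set Q))).map f :=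
          congrArg (fun K : Subgroup Q => K.map f) hS.symm
      _ = _ := by
          rw [MonoidHom.map_closure, Set.image_insert_eq, show f ⟨v, hv⟩ = 1 from
            (QuotientGroup.eq_one_iff v).2 hvZ, Subgroup.closure_insert_one, Finset.coe_image]
  rw [Subgroup.rank_congr heq]
  exact (Subgroup.rank_closure_finset_le_card _).trans (Finset.card_image_le.trans hSc)

omit [Fintype G] hp in
theorem card_le_pow_rank [Finite G] {Q : Subgroup G} (hab : ∀ x ∈ Q, ∀ y ∈ Q, x * y = y * x)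
    {n r : ℕ} (hn : 1 ≤ n) (hr : Group.rank Q ≤ r) (hord : ∀ x ∈ Q, orderOf x ≤ n) :
    Nat.card Q ≤ n ^ r := by
  letI : CommGroup Q :=
    { (inferInstance : Group Q) with mul_comm := fun a b => Subtype.ext (hab a a.2 b b.2) }
  obtain ⟨S₀, hS₀c, hS₀⟩ := Group.rank_spec (G := Q)
  have h := card_closure_le S₀ (n := n) fun a _ => by
    rw [← Subgroup.orderOf_coe]; exact hord _ a.2
  rw [hS₀, Subgroup.card_top] at h
  exact h.trans (Nat.pow_le_pow_right hn (hS₀c ▸ hr))

theorem major_transport (hM : Cfsg.IsPModular p M) {C₁ C₂ : Subgroup G} (h : C₁ = C₂)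
    {f : Set (Cfsg.IrrCharacter C₁)} (hf : Cfsg.IsInducedBlock M C₁ f B)
    (hd : Cfsg.blockDefect p f = Cfsg.blockDefect p B) :
    ∃ b : Set (Cfsg.IrrCharacter C₂), Cfsg.IsInducedBlock M C₂ b B ∧
      Cfsg.blockDefect p b = Cfsg.blockDefect p B := by
  have := hM
  subst h
  exact ⟨f, hf, hd⟩

open scoped Classical in
/-- A major subsection at an element of maximal order and its dominated block. -/
theorem exists_dominated_major (hM : Cfsg.IsPModular p M) (hB : Cfsg.IsPBlock M B)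
    {D : Subgroup G} (hD : Cfsg.IsDefectGroup p M B D) (hab : ∀ x ∈ D, ∀ y ∈ D, x * y = y * x)
    {r : ℕ} (hr : Group.rank D ≤ r + 1) :
    ∃ (v : G) (t : ℕ), orderOf v = p ^ t ∧ Nat.card D ≤ p ^ (t * (r + 1)) ∧
      ∃ b : Set (Cfsg.IrrCharacter ↥(Subgroup.centralizer ({v} : Set G))),
        Cfsg.IsInducedBlock M (Subgroup.centralizer ({v} : Set G)) b B ∧
        Cfsg.blockDefect p b = Cfsg.blockDefect p B ∧
        ∃ (Z : Subgroup ↥(Subgroup.centralizer ({v} : Set G))) (_ : Z.Normal),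
          Z ≤ Subgroup.center ↥(Subgroup.centralizer ({v} : Set G)) ∧ IsPGroup p Z ∧
          Nat.card Z = p ^ t ∧
          ∃ bq : Set (Cfsg.IrrCharacter (↥(Subgroup.centralizer ({v} : Set G)) ⧸ Z)),
            Cfsg.IsPBlock M bq ∧ (∀ ξ, ξ ∈ bq ↔ H24.QuotientDefect.infl Z ξ ∈ b) ∧
            Cfsg.blockDefect p b = Cfsg.blockDefect p bq + t ∧
            ∃ Dbar : Subgroup (↥(Subgroup.centralizer ({v} : Set G)) ⧸ Z),
              Cfsg.IsDefectGroup p M bq Dbar ∧ (∀ x ∈ Dbar, ∀ y ∈ Dbar, x * y = y * x) ∧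
              Group.rank Dbar ≤ r := by
  obtain ⟨P, c, hmax⟩ := H82.exists_maximal hM hB
  have hPD : Cfsg.IsDefectGroup p M B P := S4659.result p M hM B P c hmax
  have hcardP := H82.card_of_maximal hM hmax
  have hiso : ∀ {E : Subgroup G}, Cfsg.IsDefectGroup p M B E → ∃ g : G,
      E = D.map (MulAut.conj g).toMonoidHom := by
    intro E hE
    obtain ⟨g, hg⟩ := H35.defectGroup_le_conj hM hB hD hE
    exact ⟨g, Subgroup.eq_of_le_of_card_ge hg (le_of_eq (by
      rw [Subgroup.card_map_of_injective (MulAut.conj g).injective, H35.card_defectGroup hM hB hD,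
        H35.card_defectGroup hM hB hE]))⟩
  have hPab : ∀ x ∈ P, ∀ y ∈ P, x * y = y * x := by
    obtain ⟨g, rfl⟩ := hiso hPD
    rintro _ ⟨x, hx, rfl⟩ _ ⟨y, hy, rfl⟩
    rw [← map_mul, ← map_mul, hab x hx y hy]
  obtain ⟨v, hvP, hvmax⟩ := (Finset.univ.filter fun x : G => x ∈ P).exists_max_image orderOf
    ⟨1, Finset.mem_filter.2 ⟨Finset.mem_univ _, P.one_mem⟩⟩
  replace hvP : v ∈ P := (Finset.mem_filter.1 hvP).2
  replace hvmax : ∀ x ∈ P, orderOf x ≤ orderOf v := fun x hx =>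
    hvmax x (Finset.mem_filter.2 ⟨Finset.mem_univ _, hx⟩)
  obtain ⟨t, ht⟩ := IsPGroup.iff_orderOf.1 hmax.1.1.1 ⟨v, hvP⟩
  rw [Subgroup.orderOf_mk] at ht
  refine ⟨v, t, ht, ?_, ?_⟩
  · obtain ⟨g, hg⟩ := hiso hPD
    have he : Nat.card P = Nat.card D := by
      rw [hg, Subgroup.card_map_of_injective (MulAut.conj g).injective]
    rw [← he, pow_mul]
    refine card_le_pow_rank hPab (Nat.one_le_pow _ _ hp.out.pos) ?_ fun x hx => ht ▸ hvmax x hx
    rw [rank_congr_equiv ((MulEquiv.subgroupCongr hg).trans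
      (Subgroup.equivMapOfInjective D _ (MulAut.conj g).injective).symm)]
    exact hr
  obtain ⟨f, -, hle⟩ := H82.exists_subpair hM hmax.1.1 (Subgroup.zpowers_le.2 hvP)
  have hzC : Subgroup.zpowers v ≤ Subgroup.centralizer ((Subgroup.zpowers v : Subgroup G) : Set G) :=
    fun a ha => Subgroup.mem_centralizer_iff.2 fun c hc =>
      hPab c (Subgroup.zpowers_le.2 hvP hc) a (Subgroup.zpowers_le.2 hvP ha)
  obtain ⟨hind0, hd0⟩ := H83.major_of_le hM hmax (hmax.1.1.1.to_le (Subgroup.zpowers_le.2 hvP)) hzC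
    (fun a ha => Subgroup.mem_centralizer_iff.2 fun c hc =>
      hPab c (Subgroup.zpowers_le.2 hvP hc) a ha) hle
  obtain ⟨b, hind, hbd⟩ := major_transport hM
    (show Subgroup.centralizer ((Subgroup.zpowers v : Subgroup G) : Set G) =
      Subgroup.centralizer ({v} : Set G) by
      rw [Subgroup.zpowers_eq_closure, Subgroup.centralizer_closure]) hind0 hd0
  refine ⟨b, hind, hbd, ?_⟩
  set vC : ↥(Subgroup.centralizer ({v} : Set G)) :=
    ⟨v, Subgroup.mem_centralizer_singleton_iff.2 rfl⟩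
  set Z := Subgroup.zpowers vC with hZdef
  have hZc : Z ≤ Subgroup.center _ := Subgroup.zpowers_le.2 (Subgroup.mem_center_iff.2 fun c =>
    Subtype.ext (H83.mem_centralizer_comm c).symm)
  haveI hZn : Z.Normal := ⟨fun a ha g => by
    rwa [Subgroup.mem_center_iff.1 (hZc ha) g, mul_inv_cancel_right]⟩
  have hZcard : Nat.card Z = p ^ t := by
    rw [hZdef, Nat.card_zpowers, ← Subgroup.orderOf_coe, ht]
  have hZp : IsPGroup p Z := IsPGroup.of_card hZcard
  obtain ⟨bq, hbq, hmem, hDbar⟩ := exists_dominated hM hZc hZp hind.1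
  refine ⟨Z, hZn, hZc, hZp, hZcard, bq, hbq, hmem, ?_⟩
  obtain ⟨g₀, hg₀⟩ := BlockBasic.exists_isDefectClass (p := p) hM hind.1
  set Q := H35.sylImage (default : Sylow p
    (Subgroup.centralizer ({g₀} : Set ↥(Subgroup.centralizer ({v} : Set G)))))
  have hQ : Cfsg.IsDefectGroup p M b Q := ⟨g₀, hg₀, default, rfl⟩
  obtain ⟨E, hE, hQE⟩ := H35.defectGroup_le_induced hM _ hind hQ
  have hQeq : Q.map (Subgroup.centralizer ({v} : Set G)).subtype = E :=
    Subgroup.eq_of_le_of_card_ge hQE (le_of_eq (by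
      rw [Subgroup.card_map_of_injective (Subgroup.subtype_injective _),
        H35.card_defectGroup hM hind.1 hQ, H35.card_defectGroup hM hB hE, hbd]))
  obtain ⟨g, hg⟩ := hiso hE
  have hQab : ∀ x ∈ Q, ∀ y ∈ Q, x * y = y * x := by
    intro x hx y hy
    have hx' : (x : G) ∈ E := hQeq ▸ ⟨x, hx, rfl⟩
    have hy' : (y : G) ∈ E := hQeq ▸ ⟨y, hy, rfl⟩
    rw [hg] at hx' hy'
    obtain ⟨x', hx', ex⟩ := hx'
    obtain ⟨y', hy', ey⟩ := hy'
    refine Subtype.ext ?_
    rw [Subgroup.coe_mul, Subgroup.coe_mul, ← ex, ← ey, ← map_mul, ← map_mul, hab x' hx' y' hy']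
  have hQrank : Group.rank Q ≤ r + 1 := by
    rw [rank_congr_equiv ((Subgroup.equivMapOfInjective Q _ (Subgroup.subtype_injective _)).trans
      ((MulEquiv.subgroupCongr (hQeq.trans hg)).trans
        (Subgroup.equivMapOfInjective D _ (MulAut.conj g).injective).symm))]
    exact hr
  have hQmax : ∀ x ∈ Q, orderOf x ≤ orderOf vC := by
    intro x hx
    obtain ⟨g', hg'⟩ := hiso hPD
    have hx' : (x : G) ∈ E := hQeq ▸ ⟨x, hx, rfl⟩
    rw [hg] at hx'
    obtain ⟨y, hy, ey⟩ := hx'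
    have hyP : MulAut.conj g' y ∈ P := hg' ▸ ⟨y, hy, rfl⟩
    have h1 := hvmax _ hyP
    rw [MulEquiv.orderOf_eq] at h1
    rw [← Subgroup.orderOf_coe, ← Subgroup.orderOf_coe vC]
    show orderOf (x : G) ≤ orderOf v
    rw [← ey]
    show orderOf (MulAut.conj g y) ≤ orderOf v
    rwa [MulEquiv.orderOf_eq]
  have hZQ : Z ≤ Q := H35.le_defectGroup_of_normal hM hind.1 hQ Z hZp
  set Dbar := Q.map (QuotientGroup.mk' Z)
  have hDb : Cfsg.IsDefectGroup p M bq Dbar := (hDbar Dbar).2 ⟨Q, hQ, rfl⟩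
  refine ⟨?_, Dbar, hDb, ?_, rank_map_quotient (H35.sylImage_isPGroup _) hQab hQrank
    (hZQ (Subgroup.mem_zpowers vC)) hQmax Z (Subgroup.mem_zpowers vC)⟩
  · have hidx : Q.index = Dbar.index := by
      have h1 := Subgroup.index_comap_of_surjective Dbar (QuotientGroup.mk'_surjective Z)
      rwa [Subgroup.comap_map_eq_self (by rw [QuotientGroup.ker_mk']; exact hZQ)] at h1
    have h1 := Subgroup.card_mul_index Q
    rw [hidx, Subgroup.card_eq_card_quotient_mul_card_subgroup Z, ← Subgroup.card_mul_index Dbar,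
      mul_right_comm] at h1
    have h2 := Nat.eq_of_mul_eq_mul_right (Nat.pos_of_ne_zero Subgroup.index_ne_zero_of_finite) h1
    rw [H35.card_defectGroup hM hind.1 hQ, H35.card_defectGroup hM hbq hDb, hZcard, ← pow_add] at h2
    exact Nat.pow_right_injective hp.out.two_le h2
  · rintro _ ⟨x, hx, rfl⟩ _ ⟨y, hy, rfl⟩
    rw [← map_mul, ← map_mul, hQab x hx y hy]

open scoped Classical in
/-- The count from a major subsection with a lower bound on the traces of the diagonal. -/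
theorem card_mul_le (hM : Cfsg.IsPModular p M) (hB : Cfsg.IsPBlock M B) {y : G} {n : ℕ}
    (hy : orderOf y = p ^ n) [Fintype ↥(Subgroup.centralizer ({y} : Set G))]
    {b : Set (Cfsg.IrrCharacter ↥(Subgroup.centralizer ({y} : Set G)))}
    (hind : Cfsg.IsInducedBlock M (Subgroup.centralizer ({y} : Set G)) b B)
    (hbd : Cfsg.blockDefect p b = Cfsg.blockDefect p B) (c : ℕ)
    (hlow : ∀ (ζ : ℂ) (e : Cfsg.IrrCharacter ↥(Subgroup.centralizer ({y} : Set G)) → ℕ)
      (χ : Cfsg.IrrCharacter G), IsPrimitiveRoot ζ (p ^ n) →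
      (∀ η : ℂ, IsPrimitiveRoot η (p ^ n) →
        conj (aeval η (H83.contribPoly p (p ^ n) b e χ χ)) =
            aeval η (H83.contribPoly p (p ^ n) b e χ χ) ∧
          0 ≤ (aeval η (H83.contribPoly p (p ^ n) b e χ χ)).re) →
      aeval ζ (H83.contribPoly p (p ^ n) b e χ χ) ≠ 0 →
      ((primitiveRoots (p ^ n) ℂ).card : ℝ) * (c : ℝ) ≤
        ∑ η ∈ primitiveRoots (p ^ n) ℂ, (aeval η (H83.contribPoly p (p ^ n) b e χ χ)).re) :
    c * Nat.card B ≤ p ^ Cfsg.blockDefect p B * Cfsg.blockRank p b := by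
  obtain ⟨ζ, e, hζ, -, hsymm, hη, hH⟩ := H83.exists_major_contrib hM hy hind hbd
  haveI : NeZero (p ^ n) := ⟨pow_ne_zero _ hp.out.ne_zero⟩
  set Bf := Finset.univ.filter (fun χ : Cfsg.IrrCharacter G => χ ∈ B) with hBf
  set S := primitiveRoots (p ^ n) ℂ with hS
  have hmemS : ∀ {η}, η ∈ S → IsPrimitiveRoot η (p ^ n) :=
    fun h => (mem_primitiveRoots (NeZero.pos _)).1 h
  have hne : ∀ χ ∈ B, aeval ζ (H83.contribPoly p (p ^ n) b e χ χ) ≠ 0 := by
    intro χ hχ h0
    obtain ⟨θ, hθ, hθ0⟩ := H83.exists_height_zero hM hB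
    obtain ⟨H, hHe, hHM⟩ := hH χ hχ θ hθ
    have h1 := (hη ζ hζ).1 χ
    rw [h0, Complex.zero_re, mul_zero,
      Finset.sum_eq_zero_iff_of_nonneg fun _ _ => sq_nonneg _] at h1
    have h2 := h1 θ (Finset.mem_filter.2 ⟨Finset.mem_univ _, hθ⟩)
    rw [sq_eq_zero_iff, norm_eq_zero, hHe ζ hζ, mul_eq_zero] at h2
    have h3 := h2.resolve_left (pow_ne_zero _ (Nat.cast_ne_zero.2 hp.out.ne_zero))
    rw [h3] at hHM
    have := hHM.1 (BlockBasic.memLocalIdeal_zero hM)
    omega
  have hall : ∀ χ ∈ Bf, (S.card : ℝ) * (c : ℝ) ≤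
      ∑ η ∈ S, (aeval η (H83.contribPoly p (p ^ n) b e χ χ)).re := fun χ hχ =>
    hlow ζ e χ hζ (fun η h => ⟨(hsymm η h.pow_eq_one χ χ).symm, (hη η h).2.2 χ⟩)
      (hne χ (Finset.mem_filter.1 hχ).2)
  have hup : ∑ χ ∈ Bf, ∑ η ∈ S, (aeval η (H83.contribPoly p (p ^ n) b e χ χ)).re =
      (S.card : ℝ) * ((p : ℝ) ^ Cfsg.blockDefect p B * (Cfsg.blockRank p b : ℝ)) := by
    rw [Finset.sum_comm, Finset.sum_congr rfl fun η h => (hη η (hmemS h)).2.1, Finset.sum_const,
      nsmul_eq_mul]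
  have h := Finset.sum_le_sum hall
  rw [hup, Finset.sum_const, nsmul_eq_mul] at h
  have hSpos : (0 : ℝ) < (S.card : ℝ) :=
    Nat.cast_pos.2 (Finset.card_pos.2 ⟨ζ, (mem_primitiveRoots (NeZero.pos _)).2 hζ⟩)
  have hcard : Nat.card B = Bf.card := by
    rw [Nat.card_eq_fintype_card, Fintype.card_subtype, hBf]
  have h2 : ((c * Nat.card B : ℕ) : ℝ) ≤
      ((p ^ Cfsg.blockDefect p B * Cfsg.blockRank p b : ℕ) : ℝ) := by
    push_cast
    rw [hcard]
    refine le_of_mul_le_mul_left (le_trans (le_of_eq ?_) h) hSpos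
    ring
  exact_mod_cast h2

open scoped Classical in
/-- Commutative defect group with at most two generators. -/
theorem card_le_pow_of_rank_le_two (hM : Cfsg.IsPModular p M) (hB : Cfsg.IsPBlock M B)
    {D : Subgroup G} (hD : Cfsg.IsDefectGroup p M B D) (hab : ∀ x ∈ D, ∀ y ∈ D, x * y = y * x)
    (hr : Group.rank D ≤ 2) : Nat.card B ≤ p ^ Cfsg.blockDefect p B := by
  obtain ⟨v, t, hvo, hDt, b, hind, hbd, Z, hZn, hZc, hZp, hZcard, bq, hbq, hmem, hdef, Dbar, hDbar,
    -, hrk⟩ := exists_dominated_major hM hB hD hab (r := 1) hr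
  haveI := hZn
  haveI : Fintype ↥(Subgroup.centralizer ({v} : Set G)) := Fintype.ofFinite _
  haveI : Fintype (↥(Subgroup.centralizer ({v} : Set G)) ⧸ Z) := Fintype.ofFinite _
  rcases t with _ | t
  · rw [zero_mul, pow_zero, H35.card_defectGroup hM hB hD] at hDt
    have h0 : Cfsg.blockDefect p B = 0 := by
      by_contra h
      exact absurd hDt (not_le.2 (Nat.one_lt_pow h hp.out.one_lt))
    rw [h0, pow_zero]
    exact ((S4733.result p M hM B hB).2.1.1 h0).1.le
  have hcyc : IsCyclic Dbar := by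
    obtain ⟨S, hS, htop⟩ := Group.rank_spec (G := Dbar)
    rcases Nat.le_one_iff_eq_zero_or_eq_one.1 (hS.le.trans hrk) with h | h
    · rw [Finset.card_eq_zero.1 h, Finset.coe_empty, Subgroup.closure_empty] at htop
      exact ⟨⟨1, fun x => by
        have : x ∈ (⊥ : Subgroup Dbar) := htop ▸ Subgroup.mem_top x
        rw [Subgroup.mem_bot.1 this]
        exact Subgroup.one_mem (Subgroup.zpowers (1 : Dbar))⟩⟩
    · obtain ⟨s, rfl⟩ := Finset.card_eq_one.1 h
      rw [Finset.coe_singleton, ← Subgroup.zpowers_eq_closure] at htop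
      exact ⟨⟨s, fun x => show x ∈ Subgroup.zpowers s by rw [htop]; exact Subgroup.mem_top x⟩⟩
  have hl := blockRank_le_dominated hM hZc hZp hind.1 hmem
  have hgap : ∀ x : Cfsg.IrrCharacter ↥(Subgroup.centralizer ({v} : Set G)) → ℤ,
      (∀ i ∈ Finset.univ.filter (fun ψ => ψ ∈ b),
        ∑ j ∈ Finset.univ.filter (fun ψ => ψ ∈ b), x j * H83.entry p b i j = 0) ∨
      (Cfsg.blockRank p b : ℤ) ≤ qform p b x := by
    intro x
    obtain ⟨z, hz⟩ := exists_qform_eq hM hZc hZp hind.1 hbq hmem hZcard hdef x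
    rcases qform_ge_of_cyclic hM hbq hDbar hcyc z with h | h
    · exact Or.inl fun i hi =>
        sum_entry_eq_zero_of_qform hM hind.1 (hz.trans h) (Finset.mem_filter.1 hi).2
    · right
      rw [hz]
      exact le_trans (by exact_mod_cast hl) h
  have hmain := card_mul_le hM hB hvo hind hbd (Cfsg.blockRank p b) fun ζ e χ hζ _ hne => by
    set bf := Finset.univ.filter
      (fun ψ : Cfsg.IrrCharacter ↥(Subgroup.centralizer ({v} : Set G)) => ψ ∈ b)
    set m : Cfsg.IrrCharacter ↥(Subgroup.centralizer ({v} : Set G)) → ℤ :=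
      fun ψ => (H83.mult χ ψ : ℤ)
    have heval : ∀ η : ℂ, aeval η (H83.contribPoly p (p ^ (t + 1)) b e χ χ) =
        ∑ i ∈ bf, ∑ j ∈ bf, ((m i * m j * H83.entry p b i j : ℤ) : ℂ) *
          η ^ (e i + (p ^ (t + 1) - 1) * e j) := by
      intro η
      simp only [H83.contribPoly, map_sum, map_mul, aeval_C, map_pow, aeval_X, eq_intCast, map_intCast]
      rfl
    obtain ⟨I, hI, hIl⟩ := average_ge hp.out hζ bf (H83.entry p b) m e (Int.natCast_nonneg _) hgap
      (by rw [← heval]; exact hne)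
    have hcard : ((primitiveRoots (p ^ (t + 1)) ℂ).card : ℝ) = (p : ℝ) ^ t * ((p : ℝ) - 1) := by
      rw [hζ.card_primitiveRoots, Nat.totient_prime_pow_succ hp.out, Nat.cast_mul, Nat.cast_pow,
        Nat.cast_sub hp.out.one_le, Nat.cast_one]
    rw [← Complex.re_sum, Finset.sum_congr rfl fun η _ => heval η, hI, Complex.intCast_re, hcard]
    exact_mod_cast hIl
  rw [mul_comm] at hmain
  exact Nat.le_of_mul_le_mul_right hmain (H83.blockRank_pos hM hind.1)

open scoped Classical in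
/-- Commutative defect group with at most three generators. -/
theorem card_pow_three_le (hM : Cfsg.IsPModular p M) (hB : Cfsg.IsPBlock M B)
    {D : Subgroup G} (hD : Cfsg.IsDefectGroup p M B D) (hab : ∀ x ∈ D, ∀ y ∈ D, x * y = y * x)
    (hr : Group.rank D ≤ 3) : Nat.card B ^ 3 ≤ p ^ (5 * Cfsg.blockDefect p B) := by
  obtain ⟨v, t, hvo, hDt, b, hind, hbd, Z, hZn, hZc, hZp, hZcard, bq, hbq, hmem, hdef, Dbar, hDbar,
    hDab, hrk⟩ := exists_dominated_major hM hB hD hab (r := 2) hr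
  haveI := hZn
  haveI : Fintype ↥(Subgroup.centralizer ({v} : Set G)) := Fintype.ofFinite _
  haveI : Fintype (↥(Subgroup.centralizer ({v} : Set G)) ⧸ Z) := Fintype.ofFinite _
  haveI : NeZero (p ^ t) := ⟨pow_ne_zero _ hp.out.ne_zero⟩
  have hl := blockRank_le_dominated hM hZc hZp hind.1 hmem
  have hl2 := (S4733.result p M hM bq hbq).1
  have hl3 := card_le_pow_of_rank_le_two hM hbq hDbar hDab hrk
  have hmain := card_mul_le hM hB hvo hind hbd 1 fun ζ e χ hζ hre hne => by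
    rw [Nat.cast_one, mul_one]
    exact (H83.sum_re_ge hζ _ (fun η h => (hre η h).1) (fun η h => (hre η h).2) hne).1
  rw [one_mul] at hmain
  rw [H35.card_defectGroup hM hB hD] at hDt
  have hdt : Cfsg.blockDefect p B ≤ t * (2 + 1) := (Nat.pow_le_pow_iff_right hp.out.one_lt).1 hDt
  have hk : Nat.card B ≤ p ^ (Cfsg.blockDefect p B + Cfsg.blockDefect p bq) := by
    refine hmain.trans ?_
    rw [pow_add]
    exact Nat.mul_le_mul_left _ (hl.trans (hl2.trans hl3))
  calc Nat.card B ^ 3 ≤ (p ^ (Cfsg.blockDefect p B + Cfsg.blockDefect p bq)) ^ 3 :=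
        Nat.pow_le_pow_left hk 3
    _ ≤ _ := by
        rw [← pow_mul]
        exact Nat.pow_le_pow_right hp.out.pos (by omega)

end Cfsg.Agent.H80.RankTwoThree
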